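import Groth.Agent.QC70.Res
import Groth.Prelude.Def_Coh
import Mathlib.AlgebraicGeometry.Morphisms.Flat
import Mathlib.Algebra.Category.Ring.Constructions
import Mathlib.RingTheory.TensorProduct.Free
import Mathlib.AlgebraicGeometry.Morphisms.Proper
import Mathlib.Algebra.Polynomial.Basis

/-! Sections over a scheme over an affine base, and over its base change. -/

set_option autoImplicit false
set_option maxSynthPendingDepth 6
set_option linter.style.haveILetI false

universe u

noncomputable section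

open CategoryTheory Limits AlgebraicGeometry TopologicalSpace Opposite TensorProduct

namespace Groth.Agent.FF71

open QC70

variable (A : Type u) [CommRing A] (X : Scheme.{u}) [X.Over (Spec (CommRingCat.of A))]

/-- The scalars as sections. -/
def rA (V : X.Opens) : A →+* Γ(X, V) :=
  (X.presheaf.map (homOfLE (le_top : V ≤ ⊤)).op).hom.comp
    ((X ↘ Spec (CommRingCat.of A)).appTop.hom.comp (Scheme.ΓSpecIso (CommRingCat.of A)).inv.hom)

lemma resO_rA {V W : X.Opens} (h : W ≤ V) (a : A) : resO X h (rA A X V a) = rA A X W a :=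
  resO_resO _ _ _

lemma rA_eq_appLE (V : X.Opens) :
    CommRingCat.ofHom (rA A X V) =
      (Scheme.ΓSpecIso (CommRingCat.of A)).inv ≫ (X ↘ Spec (CommRingCat.of A)).appLE ⊤ V le_top := by
  ext a
  rfl

/-- The base change to `B`. -/
abbrev bc (B : Type u) [CommRing B] [Algebra A B] : Scheme.{u} :=
  pullback (X ↘ Spec (CommRingCat.of A)) (Spec.map (CommRingCat.ofHom (algebraMap A B)))

/-- The projection of the base change. -/
abbrev bcπ (B : Type u) [CommRing B] [Algebra A B] : bc A X B ⟶ X := pullback.fst _ _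

instance bcOver (B : Type u) [CommRing B] [Algebra A B] :
    (bc A X B).Over (Spec (CommRingCat.of B)) := ⟨pullback.snd _ _⟩

instance isProper_bc [IsProper (X ↘ Spec (CommRingCat.of A))] (B : Type u) [CommRing B] [Algebra A B] :
    IsProper (bc A X B ↘ Spec (CommRingCat.of B)) :=
  inferInstanceAs (IsProper (pullback.snd _ _))

instance isAffineHom_bcπ (B : Type u) [CommRing B] [Algebra A B] : IsAffineHom (bcπ A X B) :=
  (isAffineHom_isStableUnderBaseChange.{u}).of_isPullback (IsPullback.of_hasPullback _ _).flip inferInstance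

/-- Functions on the preimage of an affine open are a base change. -/
theorem exists_bc_equiv (B : Type u) [CommRing B] [Algebra A B] {V : X.Opens} (hV : IsAffineOpen V) :
    letI := (rA A X V).toAlgebra
    ∃ e : Γ(X, V) ⊗[A] B ≃+* Γ(bc A X B, bcπ A X B ⁻¹ᵁ V),
      (∀ v, e (v ⊗ₜ 1) = (bcπ A X B).app V v) ∧
      ∀ b, e (1 ⊗ₜ b) = rA B (bc A X B) (bcπ A X B ⁻¹ᵁ V) b := by
  letI := (rA A X V).toAlgebra
  let φ : CommRingCat.of A ⟶ CommRingCat.of B := CommRingCat.ofHom (algebraMap A B)
  let s := X ↘ Spec (CommRingCat.of A)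
  have H : IsPullback (bcπ A X B) (bc A X B ↘ Spec (CommRingCat.of B)) s (Spec.map φ) :=
    IsPullback.of_hasPullback _ _
  have hUY : bcπ A X B ⁻¹ᵁ V =
      bcπ A X B ⁻¹ᵁ V ⊓ (bc A X B ↘ Spec (CommRingCat.of B)) ⁻¹ᵁ ⊤ := by
    simp
  have h1 : (⊤ : (Spec (CommRingCat.of B)).Opens) ≤ Spec.map φ ⁻¹ᵁ ⊤ := le_top
  have h2 : V ≤ s ⁻¹ᵁ ⊤ := le_top
  have hpo := (isIso_pushoutSection_iff H h1 h2 hUY).1
    (isIso_pushoutSection_of_isAffineOpen H h1 h2 hUY (isAffineOpen_top _) (isAffineOpen_top _) hV)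
  have hφ : (Spec.map φ).appLE ⊤ ⊤ h1 = (Spec.map φ).appTop :=
    (Scheme.Hom.app_eq_appLE _).symm
  have hpo' : IsPushout (CommRingCat.ofHom (algebraMap A Γ(X, V))) φ
      ((bcπ A X B).app V) (CommRingCat.ofHom (rA B (bc A X B) (bcπ A X B ⁻¹ᵁ V))) := by
    refine IsPushout.of_iso hpo (Scheme.ΓSpecIso _) (Iso.refl _) (Scheme.ΓSpecIso _) (Iso.refl _)
      ?_ ?_ ?_ ?_
    · rw [Iso.refl_hom, Category.comp_id, show algebraMap A Γ(X, V) = rA A X V from rfl,
        rA_eq_appLE, Iso.hom_inv_id_assoc]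
    · rw [hφ]
      exact Scheme.ΓSpecIso_naturality φ
    · simp [Scheme.Hom.app_eq_appLE]
    · rw [Iso.refl_hom, Category.comp_id, rA_eq_appLE, Iso.hom_inv_id_assoc]
  let i := (CommRingCat.isPushout_tensorProduct A Γ(X, V) B).isoIsPushout _ _ hpo'
  refine ⟨i.commRingCatIsoToRingEquiv, fun v => ?_, fun b => ?_⟩
  · exact congrArg (fun ψ : Γ(X, V) ⟶ _ => ψ v)
      ((CommRingCat.isPushout_tensorProduct A Γ(X, V) B).inl_isoIsPushout_hom _ _ hpo')
  · exact congrArg (fun ψ : CommRingCat.of B ⟶ _ => ψ b)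
      ((CommRingCat.isPushout_tensorProduct A Γ(X, V) B).inr_isoIsPushout_hom _ _ hpo')

/-- The polynomial variable as a function. -/
def svar (W : (bc A X (Polynomial A)).Opens) : Γ(bc A X (Polynomial A), W) :=
  rA (Polynomial A) (bc A X (Polynomial A)) W Polynomial.X

/-- Functions on the preimage in the affine line are polynomials. -/
theorem exists_poly_basis {V : X.Opens} (hV : IsAffineOpen V) :
    letI := ((bcπ A X (Polynomial A)).app V).hom.toAlgebra
    ∃ b : Module.Basis ℕ Γ(X, V) Γ(bc A X (Polynomial A), bcπ A X (Polynomial A) ⁻¹ᵁ V),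
      ∀ k, b k = svar A X _ ^ k := by
  letI := (rA A X V).toAlgebra
  letI := ((bcπ A X (Polynomial A)).app V).hom.toAlgebra
  obtain ⟨e, he1, he2⟩ := exists_bc_equiv A X (Polynomial A) hV
  let e' : Γ(X, V) ⊗[A] Polynomial A ≃ₗ[Γ(X, V)]
      Γ(bc A X (Polynomial A), bcπ A X (Polynomial A) ⁻¹ᵁ V) :=
    { e with
      map_smul' := fun r x => by
        change e (r • x) = _
        rw [Algebra.smul_def, map_mul, Algebra.TensorProduct.algebraMap_apply,
          Algebra.algebraMap_self_apply, he1]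
        rfl }
  refine ⟨((Algebra.TensorProduct.basis Γ(X, V) (Polynomial.basisMonomials A))).map e', fun k => ?_⟩
  rw [Module.Basis.map_apply, Algebra.TensorProduct.basis_apply, Polynomial.coe_basisMonomials]
  dsimp only
  rw [Polynomial.monomial_one_right_eq_X_pow]
  exact (he2 _).trans (map_pow _ _ _)

end Groth.Agent.FF71
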