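import Mathlib.RingTheory.AdicCompletion.AsTensorProduct
import Mathlib.RingTheory.AdicCompletion.Noetherian

/-! Comparing an adic completion with an inverse limit. -/

set_option autoImplicit false

universe u v

noncomputable section

namespace Groth.Agent.FF71

variable {A : Type u} [CommRing A] (I : Ideal A) {H : Type v} [AddCommGroup H] [Module A H]
  {G : ℕ → Type v} [∀ n, AddCommGroup (G n)] (t : ∀ n, G (n + 1) →+ G n) (π : ∀ n, H →+ G n)

/-- A system of maps out of `H`, inducing maps out of the completion. -/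
structure IsLimData : Prop where
  comp : ∀ n h, t n (π (n + 1) h) = π n h
  kill : ∀ n, ∀ h ∈ (I ^ (n + 1) • ⊤ : Submodule A H), π n h = 0

variable {I t π} (D : IsLimData I t π)

include D in
/-- The map on a quotient. -/
def IsLimData.ev (n : ℕ) : (H ⧸ (I ^ (n + 1) • ⊤ : Submodule A H)) →+ G n :=
  QuotientAddGroup.lift (I ^ (n + 1) • ⊤ : Submodule A H).toAddSubgroup (π n) (D.kill n)

theorem IsLimData.ev_mk (n : ℕ) (h : H) : D.ev n (Submodule.Quotient.mk h) = π n h := rfl

theorem IsLimData.ev_val_compat (x : AdicCompletion I H) (n : ℕ) :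
    t n (D.ev (n + 1) (x.val (n + 1 + 1))) = D.ev n (x.val (n + 1)) := by
  obtain ⟨h, hh⟩ := Submodule.Quotient.mk_surjective _ (x.val (n + 1 + 1))
  have h2 : Submodule.Quotient.mk h = x.val (n + 1) :=
    (congrArg (AdicCompletion.transitionMap I H (show n + 1 ≤ n + 1 + 1 by omega)) hh).trans
      (x.2 _)
  rw [← hh, ← h2, D.ev_mk, D.ev_mk, D.comp]

include D in
/-- The map out of the completion. -/
def IsLimData.map (L : AddSubgroup (∀ n, G n)) (hL : ∀ x, (∀ n, t n (x (n + 1)) = x n) → x ∈ L) :
    AdicCompletion I H →+ L :=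
  AddMonoidHom.mk' (fun x => ⟨fun n => D.ev n (x.val (n + 1)), hL _ (D.ev_val_compat x)⟩)
    fun x z => Subtype.ext (funext fun n => map_add (D.ev n) (x.val (n + 1)) (z.val (n + 1)))

theorem IsLimData.map_apply (L : AddSubgroup (∀ n, G n))
    (hL : ∀ x, (∀ n, t n (x (n + 1)) = x n) → x ∈ L) (x : AdicCompletion I H) (n : ℕ) {h : H}
    (hh : Submodule.Quotient.mk h = x.val (n + 1)) : (D.map L hL x).1 n = π n h := by
  change D.ev n (x.val (n + 1)) = _
  rw [← hh]
  rfl

theorem IsLimData.map_bijective (L : AddSubgroup (∀ n, G n))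
    (hL : ∀ x, (∀ n, t n (x (n + 1)) = x n) → x ∈ L) (d : ℕ)
    (hker : ∀ m h, π (m + d) h = 0 → h ∈ (I ^ m • ⊤ : Submodule A H))
    (hsurj : ∀ x ∈ L, ∀ n, ∃ h, π n h = x n) (hmem : ∀ x ∈ L, ∀ n, t n (x (n + 1)) = x n) :
    Function.Bijective (D.map L hL) := by
  have hiter : ∀ (x : ∀ n, G n), (∀ n, t n (x (n + 1)) = x n) → ∀ (h : H) (n k : ℕ), n ≤ k →
      π k h = x k → π n h = x n := by
    intro x hx h n k hnk
    induction k, hnk using Nat.le_induction with
    | base => exact id
    | succ k _ ih => exact fun e => ih (by rw [← D.comp, e, hx])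
  constructor
  · rw [injective_iff_map_eq_zero]
    intro x hx
    refine Subtype.ext (funext fun m => ?_)
    obtain ⟨h, hh⟩ := Submodule.Quotient.mk_surjective _ (x.val (m + d + 1))
    have h0 : π (m + d) h = 0 := by
      rw [← D.map_apply L hL x (m + d) hh, hx]
      rfl
    refine (x.2 (show m ≤ m + d + 1 by omega)).symm.trans ?_
    rw [← hh]
    exact (Submodule.Quotient.mk_eq_zero _).2 (hker m h h0)
  · intro x
    choose h hh using hsurj x.1 x.2
    refine ⟨⟨fun m => Submodule.Quotient.mk (h (m + d)), fun {m m'} hm => ?_⟩,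
      Subtype.ext (funext fun n => ?_)⟩
    · change Submodule.Quotient.mk (h (m' + d)) = _
      refine (Submodule.Quotient.eq _).2 (hker m _ ?_)
      rw [map_sub, hiter x.1 (hmem x.1 x.2) _ (m + d) (m' + d) (by omega) (hh _), hh, sub_self]
    · refine (D.map_apply L hL _ n (h := h (n + 1 + d)) rfl).trans ?_
      exact hiter x.1 (hmem x.1 x.2) _ n (n + 1 + d) (by omega) (hh _)

variable (I) in
/-- Finite modules over a complete Noetherian ring are complete. -/
theorem of_bijective_of_finite [IsNoetherianRing A] [IsAdicComplete I A] [Module.Finite A H] :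
    Function.Bijective (AdicCompletion.of I H) := by
  haveI : IsHausdorff I H :=
    IsHausdorff.of_le_jacobson I (M := H) (IsAdicComplete.le_jacobson_bot I)
  refine ⟨AdicCompletion.of_injective_iff.2 inferInstance, fun x => ?_⟩
  obtain ⟨s, rfl⟩ := AdicCompletion.ofTensorProduct_surjective_of_finite I H x
  induction s using TensorProduct.induction_on with
  | zero => exact ⟨0, by simp⟩
  | tmul a m =>
    obtain ⟨a₀, rfl⟩ := (AdicCompletion.of_surjective_iff.2 inferInstance :
      Function.Surjective (AdicCompletion.of I A)) a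
    refine ⟨a₀ • m, ?_⟩
    rw [AdicCompletion.ofTensorProduct_tmul, map_smul]
    exact AdicCompletion.ext fun k => rfl
  | add a b ha hb =>
    obtain ⟨a', ha⟩ := ha
    obtain ⟨b', hb⟩ := hb
    exact ⟨a' + b', by rw [map_add, map_add, ha, hb]⟩

end Groth.Agent.FF71
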