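import Groth.Agent.FF71.Classes
import Groth.Agent.FF71.Limit

/-! The theorem on formal functions. -/

set_option autoImplicit false
set_option maxSynthPendingDepth 6
set_option linter.style.haveILetI false
set_option linter.unusedSectionVars false
set_option backward.isDefEq.respectTransparency.types false

universe u

noncomputable section

open CategoryTheory Limits AlgebraicGeometry TopologicalSpace Opposite

namespace Groth.Agent.FF71

open QC70 Coh69 CechComp71

variable (A : Type u) [CommRing A] [IsNoetherianRing A] (I : Ideal A) (X : Scheme.{u})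
  [X.Over (Spec (CommRingCat.of A))] [IsProper (X ↘ Spec (CommRingCat.of A))]
  (M : X.Modules)

theorem exists_degree_ideal [IsLocallyNoetherian X] [M.IsQuasicoherent] [M.IsFiniteType] {ι : Type u}
    [Finite ι] (U : ι → X.Opens) (hU : ⨆ i, U i = ⊤)
    (hUa : ∀ (n : ℕ) (i : Fin (n + 1) → ι), IsAffineOpen (cOpen U i))
    (p : ℕ) (S : AddSubgroup (Cochain U M.presheaf p))
    (hS : ∀ (a : A) (c : Cochain U M.presheaf p), c ∈ S → smulC U M p a c ∈ S) :
    ∃ d, ∀ k, d ≤ k → ∀ z ∈ CJ A U M (I ^ k) p,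
      cd U M.presheaf p z = 0 → z ∈ S →
        ∃ g ∈ AddSubgroup.closure {c | ∃ a ∈ I ^ (k - d),
            ∃ z' ∈ CJ A U M (I ^ d) p ⊓ (cd U M.presheaf p).ker ⊓ S, c = smulC U M p a z'},
          ∃ b ∈ BJ A U M (I ^ k) p, g + b = z := by
  obtain ⟨r, f, rfl⟩ := Submodule.fg_iff_exists_fin_generating_family.1 (IsNoetherian.noetherian I)
  obtain ⟨d, hd⟩ := exists_degree U M f hUa hU p S hS
  exact ⟨d, fun k hk z h1 h2 h3 => AddSubgroup.mem_sup.1 (hd k hk z h1 h2 h3)⟩

variable {A X}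

/-- The kernels of the maps to the cohomology of the reductions. -/
abbrev R (p n : ℕ) : Set (Coh.HH X M p) := ((Formal.toHHmodPow I M p n).ker : Set (Coh.HH X M p))

lemma mem_R_iff {p n : ℕ} {x : Coh.HH X M p} : x ∈ R I M p n ↔ Formal.toHHmodPow I M p n x = 0 :=
  Iff.rfl

theorem exists_R_subset (hM : Coh.IsCoh M) (p : ℕ) : ∃ d, ∀ n, d ≤ n + 1 →
    (∀ x ∈ R I M p n, x ∈ I ^ (n + 1 - d) • (⊤ : Submodule A (Coh.HH X M p))) ∧
    (d + 1 ≤ n → ∀ x ∈ R I M p n, x ∈ I • Submodule.span A (R I M p (n - 1))) := by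
  haveI := hM.1
  haveI := hM.2
  haveI := LocallyOfFiniteType.isLocallyNoetherian (X ↘ Spec (CommRingCat.of A))
  obtain ⟨ι, hι, U, hU, hUa⟩ := exists_cover (A := A) (X := X)
  obtain ⟨d, hd⟩ := exists_degree_ideal A I X M U hU hUa p ⊤ fun _ _ _ => trivial
  have hac := acyclicOn_of_isAffineOpen U M hUa
  have main : ∀ n, d ≤ n + 1 → ∀ x ∈ R I M p n, ∀ T : Submodule A (Coh.HH X M p),
      (∀ a ∈ I ^ (n + 1 - d), ∀ z : MZ U M p, (z.1 : Cochain U M.presheaf p) ∈ CJ A U M (I ^ d) p →
        a • toHH U hU M p z ∈ T) → x ∈ T := by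
    intro n hn x hx T hT
    obtain ⟨z, hz, rfl⟩ := exists_mem_of_toHHmodPow_eq_zero U hU M I hUa hx
    obtain ⟨g, hg, b, hb, hgb⟩ := hd (n + 1) hn _ hz z.2 trivial
    suffices h : ∃ z' : MZ U M p, (z'.1 : Cochain U M.presheaf p) = g ∧ toHH U hU M p z' ∈ T by
      obtain ⟨z', hz', hT'⟩ := h
      rw [toHH_eq_of_sub_mem U hU M hac (J := I ^ (n + 1)) (z := z) (z' := z') ?_]
      · exact hT'
      rw [hz', ← hgb]
      exact (congrArg (fun t => t ∈ BJ A U M (I ^ (n + 1)) p) (add_sub_cancel_left g b)).mpr hb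
    clear hgb
    induction hg using AddSubgroup.closure_induction with
    | mem c hc =>
      obtain ⟨a, ha, z', ⟨⟨hz', hzc⟩, -⟩, rfl⟩ := hc
      exact ⟨smulZ A U M p a ⟨z', hzc⟩, rfl, by rw [toHH_smulZ]; exact hT a ha _ hz'⟩
    | zero => exact ⟨0, rfl, by rw [map_zero]; exact zero_mem _⟩
    | add a c _ _ ha hc =>
      obtain ⟨za, rfl, hza⟩ := ha
      obtain ⟨zc, rfl, hzc⟩ := hc
      exact ⟨za + zc, rfl, by rw [map_add]; exact add_mem hza hzc⟩
    | neg a _ ha =>
      obtain ⟨za, rfl, hza⟩ := ha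
      exact ⟨-za, rfl, by rw [map_neg]; exact neg_mem hza⟩
  refine ⟨d, fun n hn => ⟨fun x hx => main n hn x hx _ fun a ha z _ => ?_, fun hn' x hx =>
    main n hn x hx _ fun a ha z hz => ?_⟩⟩
  · exact Submodule.smul_mem_smul ha trivial
  · rw [show n + 1 - d = n - d + 1 by omega, pow_succ'] at ha
    refine Submodule.mul_induction_on ha (fun u hu v hv => ?_) fun u v hu hv => ?_
    · rw [mul_smul, ← toHH_smulZ]
      refine Submodule.smul_mem_smul hu (Submodule.subset_span ?_)
      refine toHHmodPow_eq_zero_of_mem U hU M I ?_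
      have h := smulC_mem_CJ U M hv hz
      rw [← pow_add, show n - d + d = n - 1 + 1 by omega] at h
      exact h
    · rw [add_smul]; exact add_mem hu hv

theorem pow_smul_top_subset_R (hM : Coh.IsCoh M) (p n : ℕ) {x : Coh.HH X M p}
    (hx : x ∈ I ^ (n + 1) • (⊤ : Submodule A (Coh.HH X M p))) :
    Formal.toHHmodPow I M p n x = 0 := by
  haveI := hM.1
  obtain ⟨ι, hι, U, hU, hUa⟩ := exists_cover (A := A) (X := X)
  refine Submodule.smul_induction_on hx (fun a ha m _ => ?_) fun a b ha hb => by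
    rw [map_add, ha, hb, add_zero]
  obtain ⟨z, rfl⟩ := toHH_surjective hU (acyclicOn_of_isAffineOpen U M hUa) p m
  rw [← toHH_smulZ]
  refine toHHmodPow_eq_zero_of_mem U hU M I ?_
  have h := smulC_mem_CJ U M ha (mem_CJ_top U M (z.1 : Cochain U M.presheaf p))
  rwa [Ideal.mul_top] at h

theorem smul_span_R_subset (hM : Coh.IsCoh M) (p k : ℕ) {x : Coh.HH X M p}
    (hx : x ∈ I • Submodule.span A (R I M p k)) : Formal.toHHmodPow I M p (k + 1) x = 0 := by
  haveI := hM.1
  obtain ⟨ι, hι, U, hU, hUa⟩ := exists_cover (A := A) (X := X)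
  refine Submodule.smul_induction_on hx (fun a ha m hm => ?_) fun a b ha hb => by
    rw [map_add, ha, hb, add_zero]
  induction hm using Submodule.span_induction generalizing a with
  | mem m hm =>
    obtain ⟨z, hz, rfl⟩ := exists_mem_of_toHHmodPow_eq_zero U hU M I hUa hm
    rw [← toHH_smulZ]
    refine toHHmodPow_eq_zero_of_mem U hU M I ?_
    have h := smulC_mem_CJ U M ha hz
    rwa [← pow_succ'] at h
  | zero => rw [smul_zero, map_zero]
  | add m m' _ _ h h' => rw [smul_add, map_add, h a ha, h' a ha, add_zero]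
  | smul t m _ h => rw [smul_smul]; exact h _ (Ideal.mul_mem_right _ _ ha)

theorem modPowπ_completion_map {n k : ℕ} (h : n ≤ k) :
    Formal.modPowπ I (k + 1) M ≫ (Formal.completion I M).map (homOfLE h).op =
      Formal.modPowπ I (n + 1) M := by
  induction k, h using Nat.le_induction with
  | base =>
    rw [show (homOfLE (le_refl n)).op = 𝟙 (op n) from rfl, CategoryTheory.Functor.map_id]
    exact Category.comp_id _
  | succ m hm ih =>
    rw [show (homOfLE (Nat.le_succ_of_le hm)).op =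
      (homOfLE (Nat.le_add_right m 1)).op ≫ (homOfLE hm).op from rfl, Functor.map_comp]
    erw [Functor.ofOpSequence_map_homOfLE_succ, ← Category.assoc, Formal.modPowπ_trans]
    exact ih

/-- Functoriality of cohomology. -/
def hm {N N' : X.Modules} (φ : N ⟶ N') (p : ℕ) : Coh.HH X N p →+ Coh.HH X N' p :=
  Sheaf.H.map ((SheafOfModules.toSheaf X.ringCatSheaf).map φ) p

lemma hm_comp {N N' N'' : X.Modules} (φ : N ⟶ N') (ψ : N' ⟶ N'') (p : ℕ) (x : Coh.HH X N p) :
    hm ψ p (hm φ p x) = hm (φ ≫ ψ) p x :=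
  Formal.HHmap_comp φ ψ p x

lemma hm_id (N : X.Modules) (p : ℕ) (x : Coh.HH X N p) : hm (𝟙 N) p x = x := by
  change Sheaf.H.map ((SheafOfModules.toSheaf X.ringCatSheaf).map (𝟙 N)) p x = x
  rw [show (SheafOfModules.toSheaf X.ringCatSheaf).map (𝟙 N) = 𝟙 (Coh.toAb N) from
    (SheafOfModules.toSheaf X.ringCatSheaf).map_id N]
  exact Sheaf.H.map_id_apply _

lemma toHHmodPow_eq_hm (p n : ℕ) (x : Coh.HH X M p) :
    Formal.toHHmodPow I M p n x = hm (Formal.modPowπ I (n + 1) M) p x := rfl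

lemma HHmodPowTrans_eq_hm (p n : ℕ) (x : Formal.HHmodPow I M p (n + 1)) :
    Formal.HHmodPowTrans I M p n x = hm (Formal.modPowTrans I (n + 1) M) p x := rfl

/-- The transition maps on cohomology. -/
def trH (p : ℕ) {n k : ℕ} (h : n ≤ k) : Formal.HHmodPow I M p k →+ Formal.HHmodPow I M p n :=
  hm ((Formal.completion I M).map (homOfLE h).op) p

theorem trH_toHHmodPow (p : ℕ) {n k : ℕ} (h : n ≤ k) (x : Coh.HH X M p) :
    trH I M p h (Formal.toHHmodPow I M p k x) = Formal.toHHmodPow I M p n x := by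
  rw [toHHmodPow_eq_hm, toHHmodPow_eq_hm, ← modPowπ_completion_map I M h]
  exact hm_comp _ _ p x

theorem exists_range_trH (hM : Coh.IsCoh M) (p : ℕ) : ∃ c : ℕ, ∀ (n k : ℕ) (h : n ≤ k),
    n + c ≤ k → Set.range (trH I M p h) = Set.range (Formal.toHHmodPow I M p n) := by
  haveI := hM.1
  haveI := hM.2
  haveI := LocallyOfFiniteType.isLocallyNoetherian (X ↘ Spec (CommRingCat.of A))
  obtain ⟨ι, hι, U, hU, hUa⟩ := exists_cover (A := A) (X := X)
  obtain ⟨d, hd⟩ := exists_degree_ideal A I X M U hU hUa (p + 1) (cd U M.presheaf p).range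
    (by rintro a _ ⟨c, rfl⟩; exact ⟨smulC U M p a c, cd_smulC U M p a c⟩)
  refine ⟨d, fun n k h hk => Set.Subset.antisymm ?_ ?_⟩
  swap
  · rintro _ ⟨x, rfl⟩
    exact ⟨_, trH_toHHmodPow I M p h x⟩
  rintro _ ⟨x, rfl⟩
  obtain ⟨y, rfl⟩ := toHH_surjective hU (acyclicOn_of_isAffineOpen U _ hUa) p x
  choose c hc using fun i => modPowπ_app_surjective I M (k + 1) (hUa p i) (y.1 i)
  have hcd : cd U M.presheaf p c ∈ CJ A U M (I ^ (k + 1)) (p + 1) := fun i => by
    refine mem_secI_of_modPowπ_eq_zero I M (k + 1) (hUa (p + 1) i) ?_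
    have h1 := congrFun (cd_cmap U ((SheafOfModules.toSheaf _).map (Formal.modPowπ I (k + 1) M)).hom
      p c) i
    rw [show cmap U ((SheafOfModules.toSheaf _).map (Formal.modPowπ I (k + 1) M)).hom p c = y.1
      from funext hc] at h1
    exact h1.symm.trans (congrFun y.2 i)
  obtain ⟨g, hg, b, ⟨e, he, rfl⟩, hgb⟩ := hd (k + 1) (by omega) _ hcd (Coh69.cd_cd U p c) ⟨c, rfl⟩
  have hw : ∃ w ∈ CJ A U M (I ^ (n + 1)) p, cd U M.presheaf p w = g := by
    clear hgb
    induction hg using AddSubgroup.closure_induction with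
    | mem t ht =>
      obtain ⟨a, ha, z, ⟨-, w, rfl⟩, rfl⟩ := ht
      refine ⟨smulC U M p a w, CJ_anti U M I (show n + 1 ≤ k + 1 - d by omega) ?_, cd_smulC U M p a w⟩
      have h2 := smulC_mem_CJ U M ha (mem_CJ_top U M w)
      rwa [Ideal.mul_top] at h2
    | zero => exact ⟨0, zero_mem _, map_zero _⟩
    | add a b _ _ ha hb =>
      obtain ⟨wa, hwa, rfl⟩ := ha
      obtain ⟨wb, hwb, rfl⟩ := hb
      exact ⟨wa + wb, add_mem hwa hwb, map_add _ _ _⟩
    | neg a _ ha =>
      obtain ⟨wa, hwa, rfl⟩ := ha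
      exact ⟨-wa, neg_mem hwa, map_neg _ _⟩
  obtain ⟨w, hw, rfl⟩ := hw
  let z : MZ U M p := ⟨c - (w + e), by
    change cd U M.presheaf p (c - (w + e)) = 0
    rw [map_sub, map_add, hgb, sub_self]⟩
  refine ⟨toHH U hU M p z, ?_⟩
  rw [toHHmodPow_toHH]
  refine Eq.trans ?_ (toHH_natural U hU
    ((SheafOfModules.toSheaf X.ringCatSheaf).map ((Formal.completion I M).map (homOfLE h).op)) p y)
  refine congrArg _ (Subtype.ext (funext fun i => ?_))
  change (Formal.modPowπ I (n + 1) M).app _ (c i - (w i + e i)) =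
    ((Formal.completion I M).map (homOfLE h).op).app _ (y.1 i)
  rw [map_sub, map_add, modPowπ_app_of_mem I M (n + 1) (hw i),
    modPowπ_app_of_mem I M (n + 1) (CJ_anti U M I (show n + 1 ≤ k + 1 by omega) he i), add_zero,
    sub_zero]
  have h1 := congrArg (fun φ => φ.app (cOpen U i) (c i)) (modPowπ_completion_map I M h)
  refine h1.symm.trans ?_
  exact congrArg (fun t => ((Formal.completion I M).map (homOfLE h).op).app (cOpen U i) t) (hc i)

theorem trH_apply_of_mem (p : ℕ) (x : Formal.HHlim I M p) {n k : ℕ} (h : n ≤ k) :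
    trH I M p h (x.1 k) = x.1 n := by
  induction k, h using Nat.le_induction with
  | base =>
    change hm ((Formal.completion I M).map (homOfLE (le_refl n)).op) p _ = _
    rw [show (homOfLE (le_refl n)).op = 𝟙 (op n) from rfl, CategoryTheory.Functor.map_id]
    exact hm_id _ p _
  | succ m hm' ih =>
    rw [← ih, ← x.2 m, HHmodPowTrans_eq_hm]
    refine Eq.trans ?_ (hm_comp _ _ p _).symm
    refine congrArg (fun φ => hm φ p (x.1 (m + 1))) ?_
    rw [show (homOfLE (Nat.le_succ_of_le hm')).op =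
      (homOfLE (Nat.le_add_right m 1)).op ≫ (homOfLE hm').op from rfl, Functor.map_comp]
    erw [Functor.ofOpSequence_map_homOfLE_succ]
    rfl

theorem isLimData (hM : Coh.IsCoh M) (p : ℕ) :
    IsLimData I (fun n => Formal.HHmodPowTrans I M p n) (fun n => Formal.toHHmodPow I M p n) where
  comp n h := (Formal.toHHlim I M p h).2 n
  kill n _ hh := pow_smul_top_subset_R I M hM p n hh

/-- The map from the completion to the limit. -/
def ofCompletion (hM : Coh.IsCoh M) (p : ℕ) :
    AdicCompletion I (Coh.HH X M p) →+ Formal.HHlim I M p :=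
  (isLimData I M hM p).map (Formal.HHlim I M p) fun _ h => h

theorem ofCompletion_apply (hM : Coh.IsCoh M) (p : ℕ) (x : AdicCompletion I (Coh.HH X M p))
    (n : ℕ) {h : Coh.HH X M p} (hh : Submodule.Quotient.mk h = x.val (n + 1)) :
    (ofCompletion I M hM p x).1 n = Formal.toHHmodPow I M p n h :=
  (isLimData I M hM p).map_apply (Formal.HHlim I M p) (fun _ h => h) x n hh

theorem exists_preimage (hM : Coh.IsCoh M) (p : ℕ) (x : Formal.HHlim I M p) (n : ℕ) :
    ∃ h, Formal.toHHmodPow I M p n h = x.1 n := by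
  obtain ⟨c, hc⟩ := exists_range_trH I M hM p
  have h' : x.1 n ∈ Set.range (trH I M p (Nat.le_add_right n c)) :=
    ⟨x.1 (n + c), trH_apply_of_mem I M p x _⟩
  rwa [hc n (n + c) (Nat.le_add_right n c) le_rfl] at h'

/-- The theorem on formal functions. -/
theorem ofCompletion_bijective (hM : Coh.IsCoh M) (p : ℕ) :
    Function.Bijective (ofCompletion I M hM p) := by
  obtain ⟨d, hd⟩ := exists_R_subset I M hM p
  refine (isLimData I M hM p).map_bijective _ _ d (fun m h h0 => ?_)
    (fun x hx n => exists_preimage I M hM p ⟨x, hx⟩ n) fun _ h => h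
  exact Submodule.smul_mono_left (Ideal.pow_le_pow_right (by omega)) ((hd (m + d) (by omega)).1 h h0)

/-- The theorem on formal functions over a complete base. -/
theorem toHHlim_bijective [IsAdicComplete I A] (hM : Coh.IsCoh M) (p : ℕ) :
    Function.Bijective (Formal.toHHlim I M p) := by
  haveI : Module.Finite A (Coh.HH X M p) := Serre71.finite_hh_of_isProper A M hM p
  have h := (ofCompletion_bijective I M hM p).comp (of_bijective_of_finite I (H := Coh.HH X M p))
  rwa [show ofCompletion I M hM p ∘ AdicCompletion.of I (Coh.HH X M p) = Formal.toHHlim I M p from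
    funext fun x => Subtype.ext (funext fun n => ofCompletion_apply I M hM p _ n rfl)] at h

end Groth.Agent.FF71
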