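import Groth.Agent.FF71.Rees
import Groth.Agent.QC70.CohOps
import Groth.Prelude.Def_Formal

/-! Sections of `M / J • M` over affine opens. -/

set_option autoImplicit false
set_option maxSynthPendingDepth 6
set_option linter.style.haveILetI false
set_option linter.unusedSectionVars false
set_option backward.isDefEq.respectTransparency.types false

universe u

noncomputable section

open CategoryTheory Limits AlgebraicGeometry TopologicalSpace Opposite

namespace Groth.Agent.FF71

open QC70

variable {A : Type u} [CommRing A] {X : Scheme.{u}} [X.Over (Spec (CommRingCat.of A))]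
  (I : Ideal A) (M : X.Modules)

lemma smulMod_app (V : X.Opens) (a : A) (m : Γ(M, V)) :
    (Formal.smulMod A M a).app V m = rA A X V a • m := rfl

lemma modPowπ_smul_eq_zero (n : ℕ) {a : A} (ha : a ∈ I ^ n) :
    Formal.smulMod A M a ≫ Formal.modPowπ I n M = 0 := by
  have h : Sigma.ι (fun _ : (I ^ n : Ideal A) => M) ⟨a, ha⟩ ≫ Formal.smulFamily (I ^ n) M =
      Formal.smulMod A M a := Sigma.ι_desc _ _
  rw [← h, Category.assoc]
  exact (congrArg (_ ≫ ·) (cokernel.condition _)).trans comp_zero

lemma modPowπ_app_of_mem (n : ℕ) {V : X.Opens} {x : Γ(M, V)} (hx : x ∈ secI A (I ^ n) M V) :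
    (Formal.modPowπ I n M).app V x = 0 := by
  refine secI_induction (P := fun x => (Formal.modPowπ I n M).app V x = 0) (map_zero _) ?_ ?_ hx
  · intro a b ha hb; rw [map_add, ha, hb, add_zero]
  · intro a ha m
    rw [← smulMod_app, ← ConcreteCategory.comp_apply, ← Scheme.Modules.Hom.comp_app,
      modPowπ_smul_eq_zero I M n ha]
    rfl

variable [M.IsQuasicoherent]

instance isQuasicoherent_modPow (n : ℕ) : (Formal.modPow I n M).IsQuasicoherent :=
  haveI : (∐ fun _ : (I ^ n : Ideal A) => M).IsQuasicoherent :=
    isQuasicoherent_coproduct _ fun _ => inferInstance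
  isQuasicoherent_cokernel (Formal.smulFamily (I ^ n) M)

theorem modPowπ_app_surjective (n : ℕ) {V : X.Opens} (hV : IsAffineOpen V) :
    Function.Surjective ((Formal.modPowπ I n M).app V) := by
  let π := Formal.modPowπ I n M
  haveI : Epi π := inferInstanceAs (Epi (cokernel.π _))
  let S := ShortComplex.mk (kernel.ι π) π (kernel.condition π)
  haveI : S.X₁.IsQuasicoherent := isQuasicoherent_kernel π
  exact app_surjective_of_isAffineOpen S
    (ShortComplex.ShortExact.mk' (ShortComplex.exact_of_f_is_kernel _ (kernelIsKernel _))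
      (by dsimp [S]; infer_instance) (by dsimp [S]; infer_instance)) hV

theorem mem_secI_of_modPowπ_eq_zero [IsNoetherianRing A] (n : ℕ) {V : X.Opens}
    (hV : IsAffineOpen V) {x : Γ(M, V)} (hx : (Formal.modPowπ I n M).app V x = 0) :
    x ∈ secI A (I ^ n) M V := by
  obtain ⟨s, a, ha⟩ := Submodule.fg_iff_exists_fin_generating_family.1
    (IsNoetherian.noetherian (I ^ n : Ideal A))
  have hmem : ∀ i, a i ∈ I ^ n := fun i => ha.le (Submodule.subset_span ⟨i, rfl⟩)
  let h : (⨁ fun _ : Fin s => M) ⟶ M := biproduct.desc fun i => Formal.smulMod A M (a i)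
  let π' := cokernel.π h
  have hfac : Formal.smulFamily (I ^ n) M ≫ π' = 0 := by
    refine Sigma.hom_ext _ _ fun b => ?_
    have hι : Sigma.ι (fun _ : (I ^ n : Ideal A) => M) b ≫ Formal.smulFamily (I ^ n) M =
        Formal.smulMod A M b.1 := Sigma.ι_desc _ _
    rw [← Category.assoc, hι, comp_zero]
    obtain ⟨c, hc⟩ := (Submodule.mem_span_range_iff_exists_fun A).1 (ha.ge b.2)
    refine Scheme.Modules.hom_ext _ _ fun W => ?_
    ext m
    change π'.app W ((Formal.smulMod A M b.1).app W m) = 0
    rw [smulMod_app, ← hc, map_sum, Finset.sum_smul, map_sum]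
    refine Finset.sum_eq_zero fun i _ => ?_
    have h0 : Formal.smulMod A M (a i) ≫ π' = 0 := by
      have hd : biproduct.ι (fun _ : Fin s => M) i ≫ h = Formal.smulMod A M (a i) :=
        biproduct.ι_desc (fun i : Fin s => Formal.smulMod A M (a i)) i
      rw [← hd, Category.assoc, cokernel.condition, comp_zero]
    have hm : π'.app W (rA A X W (a i) • m) = 0 :=
      congrArg (fun φ => φ.app W m) h0
    rw [smul_eq_mul, map_mul, mul_smul, Scheme.Modules.Hom.app_smul, hm]
    exact smul_zero _
  have hπ' : π'.app V x = 0 := by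
    have e : Formal.modPowπ I n M ≫ cokernel.desc _ π' hfac = π' := cokernel.π_desc _ _ _
    rw [← e, Scheme.Modules.Hom.comp_app, ConcreteCategory.comp_apply, hx, map_zero]
  obtain ⟨y, hy⟩ := exists_kernel_app_eq π' V x hπ'
  let g : (⨁ fun _ : Fin s => M) ⟶ kernel π' := kernel.lift π' h (cokernel.condition h)
  haveI : Epi g := inferInstanceAs (Epi (Abelian.factorThruImage h))
  haveI : (⨁ fun _ : Fin s => M).IsQuasicoherent :=
    biproduct_induction (X := X) (fun N => SheafOfModules.IsQuasicoherent N)
      (fun _ hN => isQuasicoherent_of_isZero hN)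
      (fun S hS h1 h3 => haveI := h1; haveI := h3; isQuasicoherent_X₂ S hS) _ fun _ => inferInstance
  let S := ShortComplex.mk (kernel.ι g) g (kernel.condition g)
  haveI : (kernel π').IsQuasicoherent :=
    haveI := isQuasicoherent_cokernel h
    isQuasicoherent_kernel π'
  haveI : S.X₁.IsQuasicoherent := isQuasicoherent_kernel g
  obtain ⟨(z : Γ(⨁ fun _ : Fin s => M, V)), hz⟩ := app_surjective_of_isAffineOpen S
    (ShortComplex.ShortExact.mk' (ShortComplex.exact_of_f_is_kernel _ (kernelIsKernel _))
      (by dsimp [S]; infer_instance) (by dsimp [S]; infer_instance)) hV y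
  have hx' : h.app V z = x := by
    rw [← hy, ← hz]
    change h.app V z = (kernel.ι π').app V (g.app V z)
    rw [← ConcreteCategory.comp_apply, ← Scheme.Modules.Hom.comp_app, kernel.lift_ι]
  rw [← hx']
  have hsum : h = ∑ i, biproduct.π (fun _ : Fin s => M) i ≫ Formal.smulMod A M (a i) :=
    biproduct.desc_eq
  rw [hsum]
  have happ : ∀ t : Finset (Fin s), (∑ i ∈ t, biproduct.π (fun _ : Fin s => M) i ≫
      Formal.smulMod A M (a i)).app V z ∈ secI A (I ^ n) M V := by
    intro t
    induction t using Finset.induction with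
    | empty => rw [Finset.sum_empty, Scheme.Modules.Hom.zero_app]; exact zero_mem _
    | insert i t hi ih =>
      rw [Finset.sum_insert hi, Scheme.Modules.Hom.add_app]
      exact add_mem (smul_mem_secI (hmem i) _) ih
  exact happ _

end Groth.Agent.FF71
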