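import Groth.Agent.FF71.Fin
import Groth.Agent.FF71.ModPow
import Mathlib.AlgebraicGeometry.Morphisms.Separated

/-! Kernels of reduction modulo powers of an ideal, by cocycles. -/

set_option autoImplicit false
set_option maxSynthPendingDepth 6
set_option linter.style.haveILetI false
set_option linter.unusedSectionVars false
set_option backward.isDefEq.respectTransparency.types false

universe u

noncomputable section

open CategoryTheory Limits AlgebraicGeometry TopologicalSpace Opposite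

namespace Groth.Agent.FF71

open QC70 Coh69 CechComp71

variable {A : Type u} [CommRing A] {X : Scheme.{u}} [X.Over (Spec (CommRingCat.of A))]

theorem exists_cover [IsProper (X ↘ Spec (CommRingCat.of A))] :
    ∃ (ι : Type u) (_ : Finite ι) (U : ι → X.Opens), (⨆ i, U i = ⊤) ∧
      ∀ (n : ℕ) (i : Fin (n + 1) → ι), IsAffineOpen (cOpen U i) := by
  haveI : CompactSpace X :=
    QuasiCompact.compactSpace_of_compactSpace (X ↘ Spec (CommRingCat.of A))
  haveI : X.IsSeparated :=
    ⟨by rw [← terminal.comp_from (X ↘ Spec (CommRingCat.of A))]; infer_instance⟩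
  obtain ⟨T, hT⟩ := isCompact_univ.elim_finite_subcover
    (fun U : X.affineOpens => (U.1 : Set X)) (fun U => U.1.isOpen) (fun x _ => by
      obtain ⟨_, ⟨V, hV, rfl⟩, hxV, -⟩ :=
        X.isBasis_affineOpens.exists_subset_of_mem_open (Set.mem_univ x) isOpen_univ
      exact Set.mem_iUnion.2 ⟨⟨V, hV⟩, hxV⟩)
  refine ⟨T, inferInstance, fun U => U.1.1, top_le_iff.mp fun x _ => ?_, fun n => ?_⟩
  · obtain ⟨U, hU, hxU⟩ := Set.mem_iUnion₂.1 (hT (Set.mem_univ x))
    exact Opens.mem_iSup.mpr ⟨⟨U, hU⟩, hxU⟩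
  induction n with
  | zero =>
    intro i
    rw [show cOpen (fun U : T => U.1.1) i = (i 0).1.1 from le_antisymm (cOpen_le _ i 0)
      (le_cOpen _ fun j => by rw [Fin.fin_one_eq_zero j])]
    exact (i 0).1.2
  | succ n ih =>
    intro i
    rw [← Fin.cons_self_tail i, cOpen_cons]
    exact IsAffineOpen.inf (i 0).1.2 (ih _)

variable {ι : Type u} (U : ι → X.Opens) (hU : ⨆ i, U i = ⊤) (M : X.Modules) (I : Ideal A)

variable (A) in
/-- Scalar multiplication of cocycles. -/
def smulZ (p : ℕ) (a : A) : MZ U M p →+ MZ U M p :=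
  zmap (Coh.smulAb M (Coh.toGlobal (X ↘ Spec (CommRingCat.of A)) a)) p

lemma smulZ_val (p : ℕ) (a : A) (z : MZ U M p) :
    (smulZ A U M p a z).1 = smulC U M p a (z.1 : Cochain U M.presheaf p) := rfl

lemma toHH_smulZ (p : ℕ) (a : A) (z : MZ U M p) :
    toHH U hU M p (smulZ A U M p a z) = a • toHH U hU M p z :=
  toHH_smul U hU M _ p z

lemma mem_secI_top {V : X.Opens} (m : Γ(M, V)) : m ∈ secI A (⊤ : Ideal A) M V := by
  have h := smul_mem_secI (J := (⊤ : Ideal A)) (a := (1 : A)) trivial m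
  rwa [map_one, one_smul] at h

lemma mem_CJ_top {p : ℕ} (c : Cochain U M.presheaf p) : c ∈ CJ A U M (⊤ : Ideal A) p :=
  fun _ => mem_secI_top M _

lemma secI_mono {J K : Ideal A} (h : J ≤ K) (V : X.Opens) : secI A J M V ≤ secI A K M V :=
  Submodule.smul_mono_left (Ideal.map_mono h)

lemma CJ_anti {m n : ℕ} (h : m ≤ n) {p : ℕ} {c : Cochain U M.presheaf p}
    (hc : c ∈ CJ A U M (I ^ n) p) : c ∈ CJ A U M (I ^ m) p :=
  fun i => secI_mono M (Ideal.pow_le_pow_right h) _ (hc i)

lemma toHH_eq_of_sub_mem (hac : AcyclicOn U (Coh.toAb M)) {J : Ideal A} {p : ℕ} {z z' : MZ U M p}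
    (h : (z.1 : Cochain U M.presheaf p) - z'.1 ∈ BJ A U M J p) :
    toHH U hU M p z = toHH U hU M p z' := by
  cases p with
  | zero =>
    rw [show z = z' from Subtype.ext (sub_eq_zero.1 ((AddSubgroup.mem_bot).1 h))]
  | succ q =>
    obtain ⟨e, -, he⟩ := h
    rw [← sub_eq_zero, ← map_sub]
    exact (toHH_eq_zero_iff hU hac q (z - z')).2 ⟨e, he⟩

variable [M.IsQuasicoherent] (hUa : ∀ (n : ℕ) (i : Fin (n + 1) → ι), IsAffineOpen (cOpen U i))

lemma zmap_modPowπ_eq_zero {p n : ℕ} {z : MZ U M p}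
    (hz : (z.1 : Cochain U M.presheaf p) ∈ CJ A U M (I ^ n) p) :
    zmap ((SheafOfModules.toSheaf _).map (Formal.modPowπ I n M)) p z = 0 :=
  Subtype.ext (funext fun i => modPowπ_app_of_mem I M n (hz i))

lemma toHHmodPow_toHH (p n : ℕ) (z : MZ U M p) :
    Formal.toHHmodPow I M p n (toHH U hU M p z) = toHH U hU (Formal.modPow I (n + 1) M) p
      (zmap ((SheafOfModules.toSheaf _).map (Formal.modPowπ I (n + 1) M)) p z) :=
  (toHH_natural U hU _ p z).symm

lemma toHHmodPow_eq_zero_of_mem {p n : ℕ} {z : MZ U M p}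
    (hz : (z.1 : Cochain U M.presheaf p) ∈ CJ A U M (I ^ (n + 1)) p) :
    Formal.toHHmodPow I M p n (toHH U hU M p z) = 0 := by
  rw [toHHmodPow_toHH, zmap_modPowπ_eq_zero U M I hz, map_zero]

variable [IsNoetherianRing A]

include hUa in
/-- Classes dying modulo `I ^ (n + 1)` have cocycles with values in `I ^ (n + 1) • M`. -/
theorem exists_mem_of_toHHmodPow_eq_zero {p n : ℕ} {x : Coh.HH X M p}
    (hx : Formal.toHHmodPow I M p n x = 0) :
    ∃ z : MZ U M p, (z.1 : Cochain U M.presheaf p) ∈ CJ A U M (I ^ (n + 1)) p ∧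
      toHH U hU M p z = x := by
  let π := Formal.modPowπ I (n + 1) M
  have hacM := acyclicOn_of_isAffineOpen U M hUa
  have hacQ := acyclicOn_of_isAffineOpen U (Formal.modPow I (n + 1) M) hUa
  obtain ⟨z, rfl⟩ := toHH_surjective hU hacM p x
  rw [toHHmodPow_toHH] at hx
  cases p with
  | zero =>
    have h := (toHH_zero_bijective U hU _).1 (hx.trans (map_zero _).symm)
    exact ⟨z, fun i => mem_secI_of_modPowπ_eq_zero I M (n + 1) (hUa 0 i)
      (congrFun (congrArg Subtype.val h) i), rfl⟩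
  | succ q =>
    obtain ⟨e, he⟩ := (toHH_eq_zero_iff hU hacQ q _).1 hx
    choose e' he' using fun i => modPowπ_app_surjective I M (n + 1) (hUa q i) (e i)
    let b : MZ U M (q + 1) := ⟨cd U M.presheaf q e', Coh69.cd_cd U q e'⟩
    refine ⟨z - b, fun i => mem_secI_of_modPowπ_eq_zero I M (n + 1) (hUa (q + 1) i) ?_,
      toHH_eq_of_sub_mem U hU M hacM (J := (⊤ : Ideal A)) ⟨-e', mem_CJ_top U M _, ?_⟩⟩
    · change π.app _ ((show Γ(M, cOpen U i) from z.1 i) - cd U M.presheaf q e' i) = 0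
      have hc := congrFun (cd_cmap U ((SheafOfModules.toSheaf _).map π).hom q e') i
      rw [show cmap U ((SheafOfModules.toSheaf _).map π).hom q e' = e from funext he'] at hc
      rw [map_sub, sub_eq_zero]
      exact ((congrFun he i).symm).trans hc
    · rw [map_neg]
      exact (sub_sub_cancel_left _ _).symm

end Groth.Agent.FF71
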