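import Mathlib.RingTheory.Polynomial.Basic
import Mathlib.Algebra.MvPolynomial.Eval
import Mathlib.RingTheory.Ideal.Operations

/-! The map onto the Rees algebra. -/

set_option autoImplicit false

noncomputable section

namespace Groth.Agent.FF71

variable {A : Type*} [CommRing A] {r : ℕ} (f : Fin r → A)

/-- `T i ↦ f i * X`. -/
def reesHom : MvPolynomial (Fin r) A →ₐ[A] Polynomial A :=
  MvPolynomial.aeval fun i => Polynomial.monomial 1 (f i)

lemma reesHom_C (a : A) : reesHom f (MvPolynomial.C a) = Polynomial.C a := by
  simp [reesHom]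

lemma coeff_reesHom_mem (b : MvPolynomial (Fin r) A) (k : ℕ) :
    (reesHom f b).coeff k ∈ Ideal.span (Set.range f) ^ k := by
  classical
  induction b using MvPolynomial.induction_on generalizing k with
  | C a =>
    rw [reesHom_C, Polynomial.coeff_C]
    split_ifs with h
    · subst h; simp
    · exact zero_mem _
  | add p q hp hq => rw [map_add, Polynomial.coeff_add]; exact add_mem (hp k) (hq k)
  | mul_X p i hp =>
    rw [map_mul, show reesHom f (MvPolynomial.X i) = Polynomial.monomial 1 (f i) from
      MvPolynomial.aeval_X _ _]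
    cases k with
    | zero => simp
    | succ k =>
      rw [Polynomial.coeff_mul_monomial, pow_succ]
      exact Ideal.mul_mem_mul (hp k) (Ideal.subset_span ⟨i, rfl⟩)

lemma exists_reesHom_eq {k : ℕ} {a : A} (ha : a ∈ Ideal.span (Set.range f) ^ k) :
    ∃ b, reesHom f b = Polynomial.monomial k a := by
  induction k generalizing a with
  | zero => exact ⟨MvPolynomial.C a, by rw [reesHom_C, Polynomial.monomial_zero_left]⟩
  | succ k ih =>
    rw [pow_succ] at ha
    refine Submodule.mul_induction_on ha (fun x hx y hy => ?_) ?_
    · obtain ⟨b, hb⟩ := ih hx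
      induction hy using Submodule.span_induction with
      | mem y hy =>
        obtain ⟨i, rfl⟩ := hy
        exact ⟨b * MvPolynomial.X i, by
          rw [map_mul, hb, show reesHom f (MvPolynomial.X i) = Polynomial.monomial 1 (f i) from
            MvPolynomial.aeval_X _ _, Polynomial.monomial_mul_monomial]⟩
      | zero => exact ⟨0, by rw [map_zero, mul_zero, map_zero]⟩
      | add y z _ _ hy hz =>
        obtain ⟨c, hc⟩ := hy
        obtain ⟨d, hd⟩ := hz
        exact ⟨c + d, by rw [map_add, hc, hd, mul_add, map_add]⟩
      | smul t y _ hy =>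
        obtain ⟨c, hc⟩ := hy
        exact ⟨MvPolynomial.C t * c, by
          rw [map_mul, hc, reesHom_C, Polynomial.C_mul_monomial, smul_eq_mul, mul_left_comm]⟩
    · rintro x y ⟨c, hc⟩ ⟨d, hd⟩
      exact ⟨c + d, by rw [map_add, hc, hd, map_add]⟩

end Groth.Agent.FF71
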