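import Groth.Agent.FF71.Sections
import Groth.Agent.FF71.ReesHom
import Groth.Agent.QCPull72.Unit
import Groth.Agent.QC70.Closure
import Groth.Agent.QCqs72.Basic
import Mathlib.AlgebraicGeometry.Morphisms.Separated
import Mathlib.RingTheory.OrzechProperty
import Mathlib.LinearAlgebra.TensorProduct.Basis

/-! The Rees module of a coherent module, as a module on a base change. -/

set_option autoImplicit false
set_option maxSynthPendingDepth 6
set_option linter.style.haveILetI false
set_option linter.unusedSectionVars false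
set_option backward.isDefEq.respectTransparency.types false

universe u

noncomputable section

open CategoryTheory Limits AlgebraicGeometry TopologicalSpace Opposite TensorProduct

namespace Groth.Agent.FF71

open QC70 QCPull72

variable {A : Type u} [CommRing A] {X : Scheme.{u}} [X.Over (Spec (CommRingCat.of A))]

/-- Sections as `A`-modules. -/
@[reducible] def secModule (M : X.Modules) (V : X.Opens) : Module A Γ(M, V) :=
  Module.compHom Γ(M, V) (rA A X V)

variable (A) in
/-- `J` times the sections. -/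
def secI (J : Ideal A) (M : X.Modules) (V : X.Opens) : Submodule Γ(X, V) Γ(M, V) :=
  (J.map (rA A X V)) • ⊤

lemma smul_mem_secI {J : Ideal A} {M : X.Modules} {V : X.Opens} {a : A} (ha : a ∈ J)
    (m : Γ(M, V)) : rA A X V a • m ∈ secI A J M V :=
  Submodule.smul_mem_smul (Ideal.mem_map_of_mem _ ha) trivial

lemma secI_induction {J : Ideal A} {M : X.Modules} {V : X.Opens} {P : Γ(M, V) → Prop}
    (hz : P 0) (hadd : ∀ x z, P x → P z → P (x + z))
    (hsmul : ∀ a ∈ J, ∀ m, P (rA A X V a • m)) {x : Γ(M, V)} (hx : x ∈ secI A J M V) : P x := by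
  refine Submodule.smul_induction_on hx (fun c hc m hm => ?_) hadd
  clear hm
  induction hc using Submodule.span_induction generalizing m with
  | mem c hc => obtain ⟨a, ha, rfl⟩ := hc; exact hsmul a ha m
  | zero => rwa [zero_smul]
  | add c d _ _ ihc ihd => rw [add_smul]; exact hadd _ _ (ihc m) (ihd m)
  | smul v c _ ihc =>
    rw [smul_eq_mul, mul_comm, mul_smul]
    exact ihc _

lemma res_mem_secI {J : Ideal A} {M : X.Modules} {V W : X.Opens} (h : W ≤ V) {x : Γ(M, V)}
    (hx : x ∈ secI A J M V) : res M h x ∈ secI A J M W := by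
  refine secI_induction (P := fun x => res M h x ∈ secI A J M W) ?_ ?_ ?_ hx
  · rw [res_zero]; exact zero_mem _
  · intro a b ha hb; rw [res_add]; exact add_mem ha hb
  · intro a ha m; rw [res_smul, resO_rA]; exact smul_mem_secI ha _

variable {r : ℕ} (f : Fin r → A)

/-- The map of the affine line over `X` to the base change to the polynomial ring. -/
def jmap : bc A X (Polynomial A) ⟶ bc A X (MvPolynomial (Fin r) A) :=
  pullback.lift (bcπ A X (Polynomial A))
    ((bc A X (Polynomial A) ↘ Spec (CommRingCat.of (Polynomial A))) ≫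
      Spec.map (CommRingCat.ofHom (reesHom f).toRingHom))
    (by
      rw [Category.assoc, ← Spec.map_comp]
      refine pullback.condition.trans (congrArg (_ ≫ Spec.map ·) ?_)
      apply CommRingCat.hom_ext
      exact RingHom.ext fun a => ((reesHom f).commutes a).symm)

lemma jmap_π : jmap (X := X) f ≫ bcπ A X (MvPolynomial (Fin r) A) = bcπ A X (Polynomial A) :=
  pullback.lift_fst _ _ _

lemma jmap_snd : jmap (X := X) f ≫
    (bc A X (MvPolynomial (Fin r) A) ↘ Spec (CommRingCat.of (MvPolynomial (Fin r) A))) =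
      (bc A X (Polynomial A) ↘ Spec (CommRingCat.of (Polynomial A))) ≫
        Spec.map (CommRingCat.ofHom (reesHom f).toRingHom) :=
  pullback.lift_snd _ _ _

instance isAffineHom_jmap : IsAffineHom (jmap (X := X) f) := by
  haveI : IsAffineHom (jmap (X := X) f ≫ bcπ A X (MvPolynomial (Fin r) A)) := by
    rw [jmap_π]; infer_instance
  exact IsAffineHom.of_comp _ (bcπ A X (MvPolynomial (Fin r) A))

lemma le_preimage_jmap (W : X.Opens) :
    bcπ A X (Polynomial A) ⁻¹ᵁ W ≤ jmap f ⁻¹ᵁ (bcπ A X (MvPolynomial (Fin r) A) ⁻¹ᵁ W) := by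
  rw [← Scheme.Hom.comp_preimage, jmap_π]

lemma preimage_jmap_le (W : X.Opens) :
    jmap f ⁻¹ᵁ (bcπ A X (MvPolynomial (Fin r) A) ⁻¹ᵁ W) ≤ bcπ A X (Polynomial A) ⁻¹ᵁ W := by
  rw [← Scheme.Hom.comp_preimage, jmap_π]

lemma jmap_app_rA (W : X.Opens) (b : MvPolynomial (Fin r) A) :
    resO _ (le_preimage_jmap f W) ((jmap f).app _
        (rA (MvPolynomial (Fin r) A) (bc A X (MvPolynomial (Fin r) A)) (bcπ A X _ ⁻¹ᵁ W) b)) =
      rA (Polynomial A) (bc A X (Polynomial A)) (bcπ A X (Polynomial A) ⁻¹ᵁ W) (reesHom f b) := by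
  let s' := bc A X (MvPolynomial (Fin r) A) ↘ Spec (CommRingCat.of (MvPolynomial (Fin r) A))
  have e : (jmap f).appTop (s'.appTop ((Scheme.ΓSpecIso _).inv b)) =
      (bc A X (Polynomial A) ↘ Spec (CommRingCat.of (Polynomial A))).appTop
        ((Scheme.ΓSpecIso _).inv (reesHom f b)) := by
    have h := congrArg (fun g => Scheme.Hom.appTop g ((Scheme.ΓSpecIso _).inv b)) (jmap_snd (X := X) f)
    simp only [Scheme.Hom.comp_appTop, CommRingCat.comp_apply] at h
    refine h.trans (congrArg _ ?_)
    exact congrArg (fun g => g b)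
      (Scheme.ΓSpecIso_inv_naturality (CommRingCat.ofHom (reesHom f).toRingHom)).symm
  refine Eq.trans ?_ (congrArg (resO _ (le_top : bcπ A X (Polynomial A) ⁻¹ᵁ W ≤ ⊤)) e)
  change resO _ _ ((jmap f).app _ (resO _ le_top (s'.appTop ((Scheme.ΓSpecIso _).inv b)))) = _
  rw [QCqs72.app_resO, resO_resO]
  rfl

lemma app_rA (B : Type u) [CommRing B] [Algebra A B] (W : X.Opens) (a : A) :
    (bcπ A X B).app W (rA A X W a) = rA B (bc A X B) (bcπ A X B ⁻¹ᵁ W) (algebraMap A B a) := by
  have h := congrArg (fun g => Scheme.Hom.appTop g ((Scheme.ΓSpecIso (CommRingCat.of A)).inv a))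
    (pullback.condition (f := X ↘ Spec (CommRingCat.of A))
      (g := Spec.map (CommRingCat.ofHom (algebraMap A B))))
  simp only [Scheme.Hom.comp_appTop, CommRingCat.comp_apply] at h
  refine (QCqs72.app_resO (bcπ A X B) le_top _).trans (congrArg (resO _ le_top) (h.trans ?_))
  exact congrArg _ (congrArg (fun g => g a)
    (Scheme.ΓSpecIso_inv_naturality (CommRingCat.ofHom (algebraMap A B))).symm)

variable (A) in
/-- The inverse image on the affine line. -/
abbrev Mq (M : X.Modules) : (bc A X (Polynomial A)).Modules :=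
  (Scheme.Modules.pullback (bcπ A X (Polynomial A))).obj M

variable (M : X.Modules)

/-- A section as a constant on the affine line. -/
def uq (W : X.Opens) : Γ(M, W) →+ Γ(Mq A M, bcπ A X (Polynomial A) ⁻¹ᵁ W) :=
  ((pullUnit (bcπ A X (Polynomial A)) M).app W).hom

lemma uq_smul (W : X.Opens) (v : Γ(X, W)) (m : Γ(M, W)) :
    uq (A := A) M W (v • m) = (bcπ A X (Polynomial A)).app W v • uq (A := A) M W m :=
  Scheme.Modules.Hom.app_smul _ v m

variable (A) in
/-- Polynomials in sections. -/
def Φ (W : X.Opens) : (ℕ →₀ Γ(M, W)) →+ Γ(Mq A M, bcπ A X (Polynomial A) ⁻¹ᵁ W) :=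
  Finsupp.liftAddHom fun k => AddMonoidHom.mk'
    (fun m => svar A X (bcπ A X (Polynomial A) ⁻¹ᵁ W) ^ k • uq (A := A) M W m)
    fun a b => by rw [map_add, smul_add]

lemma Φ_single (W : X.Opens) (k : ℕ) (m : Γ(M, W)) :
    Φ A M W (Finsupp.single k m) = svar A X (bcπ A X (Polynomial A) ⁻¹ᵁ W) ^ k • uq (A := A) M W m :=
  Finsupp.liftAddHom_apply_single _ _ _

lemma res_Φ {V W : X.Opens} (h : W ≤ V) (c : ℕ →₀ Γ(M, V)) :
    res (Mq A M) ((bcπ A X (Polynomial A)).preimage_mono h) (Φ A M V c) =
      Φ A M W (c.mapRange (res M h) (res_zero h)) := by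
  induction c using Finsupp.induction with
  | zero => rw [map_zero, res_zero, Finsupp.mapRange_zero, map_zero]
  | single_add k m c _ _ ih =>
    rw [map_add, res_add, ih, Finsupp.mapRange_add (fun a b => res_add h a b), map_add,
      Finsupp.mapRange_single, Φ_single, Φ_single, res_smul, resO_pow]
    refine congrArg₂ (· + ·) (congrArg₂ (· • ·) (congrArg (· ^ k) (resO_rA _ _ _ _)) ?_) rfl
    exact (app_res (pullUnit (bcπ A X (Polynomial A)) M) h m).symm

variable [IsLocallyNoetherian X] [M.IsQuasicoherent] [M.IsFiniteType]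

theorem Φ_injective {V : X.Opens} (hV : IsAffineOpen V) : Function.Injective (Φ A M V) := by
  let q := bcπ A X (Polynomial A)
  have hY : IsAffineOpen (q ⁻¹ᵁ V) := hV.preimage q
  have hex := exists_poly_basis A X hV
  rw [show (bcπ A X (Polynomial A)).app V =
    (bcπ A X (Polynomial A)).appLE V _ le_rfl from Scheme.Hom.app_eq_appLE _] at hex
  obtain ⟨b, hb⟩ := hex
  let P := sectionsPullbackEquiv q M hV hY le_rfl
  letI := (q.appLE V (q ⁻¹ᵁ V) le_rfl).hom.toAlgebra
  letI : Module Γ(X, V) Γ(Mq A M, q ⁻¹ᵁ V) := Module.compHom _ (q.appLE V (q ⁻¹ᵁ V) le_rfl).hom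
  haveI : IsScalarTower Γ(X, V) Γ(bc A X (Polynomial A), q ⁻¹ᵁ V) Γ(Mq A M, q ⁻¹ᵁ V) :=
    IsScalarTower.of_algebraMap_smul fun _ _ => rfl
  let u : Γ(M, V) →ₗ[Γ(X, V)] Γ(Mq A M, q ⁻¹ᵁ V) :=
    { toFun := fun m => uq (A := A) M V m
      map_add' := map_add _
      map_smul' := fun v m => by
        rw [uq_smul, Scheme.Hom.app_eq_appLE]
        rfl }
  let L := LinearMap.liftBaseChange Γ(bc A X (Polynomial A), q ⁻¹ᵁ V) u
  have hL : Function.Surjective L := by
    rw [← LinearMap.range_eq_top, eq_top_iff, ← span_unitSec_eq_top q M hV hY le_rfl,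
      Submodule.span_le]
    rintro _ ⟨m, rfl⟩
    refine ⟨1 ⊗ₜ m, ?_⟩
    rw [LinearMap.liftBaseChange_one_tmul]
    exact (res_self _).symm
  haveI := finite_sections_of_isFiniteType M hV
  have hinj : Function.Injective L := by
    have h := OrzechProperty.injective_of_surjective_endomorphism
      ((P : Γ(Mq A M, q ⁻¹ᵁ V) →ₗ[_] _).comp L) (P.surjective.comp hL)
    exact Function.Injective.of_comp (f := P) h
  have key : ∀ c, Φ A M V c = L ((TensorProduct.equivFinsuppOfBasisLeft b).symm c) := by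
    intro c
    induction c using Finsupp.induction with
    | zero => simp
    | single_add k m c _ _ ih =>
      rw [map_add, map_add, map_add, ← ih, Φ_single, TensorProduct.equivFinsuppOfBasisLeft_symm_apply,
        Finsupp.sum_single_index (by rw [TensorProduct.tmul_zero]), LinearMap.liftBaseChange_tmul, hb]
      rfl
  intro a c h
  rw [key, key] at h
  exact (TensorProduct.equivFinsuppOfBasisLeft b).symm.injective (hinj h)

end Groth.Agent.FF71
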