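import Groth.Agent.FF71.ReesMod
import Groth.Agent.Serre71.Finite
import Groth.Agent.CechComp71.Scheme

/-! Finite generation of the Čech cohomology of the powers of an ideal times a coherent module. -/

set_option autoImplicit false
set_option maxSynthPendingDepth 6
set_option linter.style.haveILetI false
set_option linter.unusedSectionVars false
set_option backward.isDefEq.respectTransparency.types false

universe u

noncomputable section

open CategoryTheory Limits AlgebraicGeometry TopologicalSpace Opposite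

namespace Groth.Agent.FF71

open QC70 Coh69 CechComp71

variable {A : Type u} [CommRing A] {X : Scheme.{u}} [X.Over (Spec (CommRingCat.of A))]
  {ι : Type u} (U : ι → X.Opens) (M : X.Modules)

/-- Multiplication of cochains by scalars. -/
def smulC (p : ℕ) (a : A) : Cochain U M.presheaf p →+ Cochain U M.presheaf p :=
  AddMonoidHom.mk' (fun c i => (rA A X (cOpen U i) a • (show Γ(M, cOpen U i) from c i) :)) fun c c' => by
    funext i
    exact smul_add (rA A X (cOpen U i) a) (show Γ(M, cOpen U i) from c i) (c' i)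

lemma smulC_apply (p : ℕ) (a : A) (c : Cochain U M.presheaf p) (i : Fin (p + 1) → ι) :
    smulC U M p a c i = rA A X (cOpen U i) a • (show Γ(M, cOpen U i) from c i) := rfl

lemma smulC_mul (p : ℕ) (a b : A) (c : Cochain U M.presheaf p) :
    smulC U M p (a * b) c = smulC U M p a (smulC U M p b c) := by
  funext i
  simp only [smulC_apply, map_mul, mul_smul]

lemma smulC_add (p : ℕ) (a b : A) (c : Cochain U M.presheaf p) :
    smulC U M p (a + b) c = smulC U M p a c + smulC U M p b c := by
  funext i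
  simp only [smulC_apply, map_add, add_smul, Pi.add_apply]

lemma cd_smulC (p : ℕ) (a : A) (c : Cochain U M.presheaf p) :
    cd U M.presheaf p (smulC U M p a c) = smulC U M (p + 1) a (cd U M.presheaf p c) := by
  funext i
  simp only [cd_apply, smulC_apply, Finset.smul_sum]
  refine Finset.sum_congr rfl fun j _ => ?_
  have h := res_smul (M := M) (cOpen_comp_le U i j.succAbove) (rA A X _ a)
    (c (i ∘ j.succAbove) : Γ(M, cOpen U (i ∘ j.succAbove)))
  rw [resO_rA] at h
  rw [smul_comm]
  exact congrArg _ h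

variable (A) in
/-- Cochains with values in `J • M`. -/
def CJ (J : Ideal A) (p : ℕ) : AddSubgroup (Cochain U M.presheaf p) where
  carrier := {c | ∀ i, (show Γ(M, cOpen U i) from c i) ∈ secI A J M (cOpen U i)}
  zero_mem' i := zero_mem (secI A J M (cOpen U i))
  add_mem' ha hb i := add_mem (ha i) (hb i)
  neg_mem' ha i := neg_mem (ha i)

lemma cd_mem_CJ {J : Ideal A} {p : ℕ} {c : Cochain U M.presheaf p} (hc : c ∈ CJ A U M J p) :
    cd U M.presheaf p c ∈ CJ A U M J (p + 1) := fun i => by
  change (∑ j : Fin (p + 2), (-1 : ℤ) ^ (j : ℕ) •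
    (res M (cOpen_comp_le U i j.succAbove) (c (i ∘ j.succAbove)))) ∈ _
  exact Submodule.sum_mem _ fun j _ => Submodule.smul_of_tower_mem _ _ (res_mem_secI _ (hc _))

lemma smulC_mem_CJ {J K : Ideal A} {p : ℕ} {a : A} (ha : a ∈ J) {c : Cochain U M.presheaf p}
    (hc : c ∈ CJ A U M K p) : smulC U M p a c ∈ CJ A U M (J * K) p := fun i => by
  refine secI_induction (P := fun x => rA A X (cOpen U i) a • x ∈ secI A (J * K) M (cOpen U i))
    ?_ ?_ ?_ (hc i)
  · rw [smul_zero]; exact zero_mem _
  · intro x z hx hz; rw [smul_add]; exact add_mem hx hz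
  · intro b hb m
    rw [smul_smul, ← map_mul]
    exact smul_mem_secI (Ideal.mul_mem_mul ha hb) m

variable (A) in
/-- Coboundaries of cochains with values in `J • M`. -/
def BJ (J : Ideal A) : ∀ p, AddSubgroup (Cochain U M.presheaf p)
  | 0 => ⊥
  | p + 1 => (CJ A U M J p).map (cd U M.presheaf p)

lemma res_zsmul_sum {Y : Scheme.{u}} (N : Y.Modules) {V W : Y.Opens} (h : W ≤ V) {κ : Type*}
    [Fintype κ] (n : κ → ℤ) (x : κ → Γ(N, V)) :
    QC70.res N h (∑ j, n j • x j) = ∑ j, n j • QC70.res N h (x j) := by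
  simp only [QC70.res, map_sum, map_zsmul]

section Main

variable {r : ℕ} (f : Fin r → A)

/-- The cover of the base change. -/
abbrev U' : ι → (bc A X (MvPolynomial (Fin r) A)).Opens :=
  fun i => bcπ A X (MvPolynomial (Fin r) A) ⁻¹ᵁ U i

lemma preimage_cOpen_le {n : ℕ} (i : Fin n → ι) :
    bcπ A X (MvPolynomial (Fin r) A) ⁻¹ᵁ cOpen U i ≤ cOpen (U' (A := A) (r := r) U) i :=
  le_cOpen _ fun j => (bcπ A X (MvPolynomial (Fin r) A)).preimage_mono (cOpen_le U i j)

lemma cOpen_le_preimage {n : ℕ} (i : Fin n → ι) :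
    cOpen (U' (A := A) (r := r) U) i ≤ bcπ A X (MvPolynomial (Fin r) A) ⁻¹ᵁ cOpen U i := fun x hx =>
  (mem_cOpen U i _).2 ((mem_cOpen (U' (A := A) (r := r) U) i x).1 hx)

/-- Cochains of the Rees module on the affine line. -/
def θc (p : ℕ) (w : Cochain (U' (A := A) (r := r) U) (Rmod f M).presheaf p) (i : Fin (p + 1) → ι) :
    Γ(Mq A M, bcπ A X (Polynomial A) ⁻¹ᵁ cOpen U i) :=
  ψ f M (cOpen U i) (QC70.res (Rmod f M) (preimage_cOpen_le U i) (w i))

lemma θc_cd (p : ℕ) (w : Cochain (U' (A := A) (r := r) U) (Rmod f M).presheaf p)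
    (i : Fin (p + 2) → ι) :
    θc U M f (p + 1) (cd _ (Rmod f M).presheaf p w) i = ∑ j : Fin (p + 2), (-1 : ℤ) ^ (j : ℕ) •
      QC70.res (Mq A M) ((bcπ A X (Polynomial A)).preimage_mono (cOpen_comp_le U i j.succAbove))
        (θc U M f p w (i ∘ j.succAbove)) := by
  rw [θc, cd_apply]
  rw [show QC70.res (Rmod f M) (preimage_cOpen_le U i) (∑ j : Fin (p + 2), (-1 : ℤ) ^ (j : ℕ) •
      Coh69.res (Rmod f M).presheaf (cOpen_comp_le _ i j.succAbove) (w (i ∘ j.succAbove))) =
      ∑ j : Fin (p + 2), (-1 : ℤ) ^ (j : ℕ) • QC70.res (Rmod f M) ((preimage_cOpen_le U i).trans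
        (cOpen_comp_le _ i j.succAbove)) (w (i ∘ j.succAbove)) from by
    refine (res_zsmul_sum (Rmod f M) _ _ _).trans ?_
    refine Finset.sum_congr rfl fun j _ => ?_
    exact congrArg _ (QC70.res_res _ _ _)]
  rw [map_sum]
  refine Finset.sum_congr rfl fun j _ => ?_
  rw [map_zsmul, θc, ← ψ_res f M (cOpen_comp_le U i j.succAbove), QC70.res_res]

lemma θc_injective (p : ℕ) {w w' : Cochain (U' (A := A) (r := r) U) (Rmod f M).presheaf p}
    (h : θc U M f p w = θc U M f p w') : w = w' := by
  funext i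
  have h1 := ψ_injective f M _ (congrFun h i)
  have h2 := congrArg (QC70.res (Rmod f M) (cOpen_le_preimage U i)) h1
  rwa [QC70.res_res, QC70.res_res, QC70.res_self, QC70.res_self] at h2

variable [IsLocallyNoetherian X] [M.IsQuasicoherent] [M.IsFiniteType]
  (hUa : ∀ (n : ℕ) (i : Fin (n + 1) → ι), IsAffineOpen (cOpen U i))

/-- The graded components of a cochain of the Rees module. -/
def coef (p : ℕ) (w : Cochain (U' (A := A) (r := r) U) (Rmod f M).presheaf p)
    (i : Fin (p + 1) → ι) : ℕ →₀ Γ(M, cOpen U i) :=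
  (exists_ψ_eq_Φ f M (hUa p i) (QC70.res (Rmod f M) (preimage_cOpen_le U i) (w i))).choose

include hUa in
lemma coef_cond (p : ℕ) (w : Cochain (U' (A := A) (r := r) U) (Rmod f M).presheaf p)
    (i : Fin (p + 1) → ι) : ReesCond A f M (cOpen U i) (coef U M f hUa p w i) :=
  (exists_ψ_eq_Φ f M (hUa p i) (QC70.res (Rmod f M) (preimage_cOpen_le U i) (w i))).choose_spec.1

lemma Φ_coef (p : ℕ) (w : Cochain (U' (A := A) (r := r) U) (Rmod f M).presheaf p)
    (i : Fin (p + 1) → ι) : Φ A M (cOpen U i) (coef U M f hUa p w i) = θc U M f p w i :=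
  (exists_ψ_eq_Φ f M (hUa p i) (QC70.res (Rmod f M) (preimage_cOpen_le U i) (w i))).choose_spec.2

lemma coef_eq {p : ℕ} {w : Cochain (U' (A := A) (r := r) U) (Rmod f M).presheaf p}
    {i : Fin (p + 1) → ι} {c : ℕ →₀ Γ(M, cOpen U i)}
    (h : Φ A M (cOpen U i) c = θc U M f p w i) : coef U M f hUa p w i = c :=
  Φ_injective M (hUa p i) ((Φ_coef U M f hUa p w i).trans h.symm)

/-- A graded component, as a cochain. -/
def coefC (p k : ℕ) :
    Cochain (U' (A := A) (r := r) U) (Rmod f M).presheaf p →+ Cochain U M.presheaf p :=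
  AddMonoidHom.mk' (fun w i => coef U M f hUa p w i k) fun w w' => by
    funext i
    have h : coef U M f hUa p (w + w') i = coef U M f hUa p w i + coef U M f hUa p w' i := by
      refine coef_eq U M f hUa ?_
      rw [map_add, Φ_coef, Φ_coef, θc, θc, θc, ← map_add]
      exact congrArg _ (QC70.res_add _ _ _).symm
    exact congrArg (fun c : ℕ →₀ Γ(M, cOpen U i) => c k) h

lemma coefC_mem (p k : ℕ) (w : Cochain (U' (A := A) (r := r) U) (Rmod f M).presheaf p) :
    coefC U M f hUa p k w ∈ CJ A U M (Ideal.span (Set.range f) ^ k) p :=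
  fun i => coef_cond U M f hUa p w i k

lemma coefC_cd (p k : ℕ) (w : Cochain (U' (A := A) (r := r) U) (Rmod f M).presheaf p) :
    coefC U M f hUa (p + 1) k (cd _ (Rmod f M).presheaf p w) =
      cd U M.presheaf p (coefC U M f hUa p k w) := by
  funext i
  have h : coef U M f hUa (p + 1) (cd _ (Rmod f M).presheaf p w) i = ∑ j : Fin (p + 2),
      (-1 : ℤ) ^ (j : ℕ) • (coef U M f hUa p w (i ∘ j.succAbove)).mapRange
        (QC70.res M (cOpen_comp_le U i j.succAbove)) (QC70.res_zero _) := by
    refine coef_eq U M f hUa ?_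
    rw [θc_cd, map_sum]
    refine Finset.sum_congr rfl fun j _ => ?_
    rw [map_zsmul, ← res_Φ, Φ_coef]
  change coef U M f hUa (p + 1) _ i k = _
  rw [h, Finsupp.finsetSum_apply, cd_apply]
  rfl

/-- The cocycle action of the polynomial ring. -/
def actB (p : ℕ) (b : MvPolynomial (Fin r) A)
    (w : Cochain (U' (A := A) (r := r) U) (Rmod f M).presheaf p) :
    Cochain (U' (A := A) (r := r) U) (Rmod f M).presheaf p :=
  fun i => (rA (MvPolynomial (Fin r) A) (bc A X (MvPolynomial (Fin r) A))
      (cOpen (U' (A := A) (r := r) U) i) b •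
    (show Γ(Rmod f M, cOpen (U' (A := A) (r := r) U) i) from w i) :)

lemma coefC_actB (p k d : ℕ) (b : MvPolynomial (Fin r) A)
    (w : Cochain (U' (A := A) (r := r) U) (Rmod f M).presheaf p)
    (hd : ∀ l, d < l → coefC U M f hUa p l w = 0) :
    coefC U M f hUa p k (actB U M f p b w) =
      ∑ m ∈ (reesHom f b).support, ∑ l ∈ Finset.range (d + 1),
        if m + l = k then smulC U M p ((reesHom f b).coeff m) (coefC U M f hUa p l w) else 0 := by
  classical
  funext i
  have h : coef U M f hUa p (actB U M f p b w) i = ∑ m ∈ (reesHom f b).support,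
      ∑ l ∈ Finset.range (d + 1), Finsupp.single (m + l)
        (rA A X (cOpen U i) ((reesHom f b).coeff m) • coef U M f hUa p w i l) := by
    refine coef_eq U M f hUa ?_
    have hw : θc U M f p (actB U M f p b w) i =
        rA (Polynomial A) (bc A X (Polynomial A)) (bcπ A X (Polynomial A) ⁻¹ᵁ cOpen U i) (reesHom f b) •
          θc U M f p w i := by
      rw [θc, θc, ← ψ_rA_smul]
      refine congrArg (ψ f M (cOpen U i)) ?_
      refine (QC70.res_smul _ _ _).trans ?_
      rw [resO_rA]
    have hc : coef U M f hUa p w i =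
        ∑ l ∈ Finset.range (d + 1), Finsupp.single l (coef U M f hUa p w i l) := by
      refine Finsupp.ext fun a => ?_
      rw [Finsupp.finsetSum_apply, Finset.sum_eq_single a]
      · rw [Finsupp.single_eq_same]
      · intro b _ hb; rw [Finsupp.single_eq_of_ne' hb]
      · intro ha
        rw [Finsupp.single_eq_same]
        exact congrFun (hd a (by simpa using ha)) i
    rw [hw, ← Φ_coef U M f hUa p w i, rA_eq_sum, Polynomial.sum_def, Finset.sum_smul, map_sum]
    refine Finset.sum_congr rfl fun m _ => ?_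
    conv_rhs => rw [hc, map_sum, Finset.smul_sum]
    rw [map_sum]
    refine Finset.sum_congr rfl fun l _ => ?_
    rw [Φ_single, Φ_single, uq_smul, smul_smul, smul_smul]
    refine congrArg₂ (· • ·) ?_ rfl
    ring
  change coef U M f hUa p (actB U M f p b w) i k = _
  rw [h, Finsupp.finsetSum_apply, Finset.sum_apply]
  refine Finset.sum_congr rfl fun m _ => ?_
  rw [Finsupp.finsetSum_apply, Finset.sum_apply]
  refine Finset.sum_congr rfl fun l _ => ?_
  rw [Finsupp.single_apply]
  split_ifs <;> rfl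

lemma exists_single (p k : ℕ) {z : Cochain U M.presheaf p}
    (hz : z ∈ CJ A U M (Ideal.span (Set.range f) ^ k) p) :
    ∃ w : Cochain (U' (A := A) (r := r) U) (Rmod f M).presheaf p,
      ∀ i, coef U M f hUa p w i = Finsupp.single k (z i : Γ(M, cOpen U i)) := by
  choose x hx using fun i => exists_ψ_eq_single f M (hz i)
  refine ⟨fun i => QC70.res (Rmod f M) (cOpen_le_preimage U i) (x i), fun i => coef_eq U M f hUa ?_⟩
  rw [θc, QC70.res_res, QC70.res_self, hx]

variable [IsNoetherianRing A] [IsProper (X ↘ Spec (CommRingCat.of A))] [Finite ι]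
  (hU : ⨆ i, U i = ⊤)

include hUa hU in
theorem exists_degree (p : ℕ) (S : AddSubgroup (Cochain U M.presheaf p))
    (hS : ∀ (a : A) (c : Cochain U M.presheaf p), c ∈ S → smulC U M p a c ∈ S) :
    ∃ d, ∀ k, d ≤ k → ∀ z ∈ CJ A U M (Ideal.span (Set.range f) ^ k) p,
      cd U M.presheaf p z = 0 → z ∈ S →
        z ∈ AddSubgroup.closure {c | ∃ a ∈ Ideal.span (Set.range f) ^ (k - d),
            ∃ z' ∈ CJ A U M (Ideal.span (Set.range f) ^ d) p ⊓ (cd U M.presheaf p).ker ⊓ S,
              c = smulC U M p a z'} ⊔ BJ A U M (Ideal.span (Set.range f) ^ k) p := by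
  classical
  let I := Ideal.span (Set.range f)
  let V := U' (A := A) (r := r) U
  let R := Rmod f M
  have hVa : ∀ (n : ℕ) (i : Fin (n + 1) → ι), IsAffineOpen (cOpen V i) := fun n i => by
    rw [le_antisymm (cOpen_le_preimage U i) (preimage_cOpen_le U i)]
    exact (hUa n i).preimage _
  have hV : ⨆ i, V i = ⊤ := top_le_iff.mp fun x _ => by
    have hx : bcπ A X (MvPolynomial (Fin r) A) x ∈ (⊤ : X.Opens) := trivial
    obtain ⟨i, hi⟩ := Opens.mem_iSup.mp (hU.ge hx)
    exact Opens.mem_iSup.mpr ⟨i, hi⟩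
  have hRc := isCoh_Rmod f M
  haveI := hRc.1
  have hac := acyclicOn_of_isAffineOpen V R hVa
  haveI : Module.Finite (MvPolynomial (Fin r) A) (Coh.HH (bc A X (MvPolynomial (Fin r) A)) R p) :=
    Serre71.finite_hh_of_isProper _ R hRc p
  let T : MZ V R p → Prop := fun w => ∀ k, coefC U M f hUa p k w.1 ∈ S
  have hbound : ∀ w : Cochain V R.presheaf p,
      ∃ d, ∀ l, d < l → coefC U M f hUa p l w = 0 := by
    intro w
    haveI : Fintype (Fin (p + 1) → ι) := Fintype.ofFinite _
    refine ⟨Finset.univ.sup fun i => (coef U M f hUa p w i).support.sup id, fun l hl => ?_⟩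
    funext i
    refine Finsupp.notMem_support_iff.1 fun h => ?_
    have h1 : l ≤ (coef U M f hUa p w i).support.sup id := Finset.le_sup (f := id) h
    have h2 := Finset.le_sup (f := fun i => (coef U M f hUa p w i).support.sup id) (Finset.mem_univ i)
    exact absurd hl (not_lt.2 (h1.trans h2))
  have hsmul : ∀ (b : MvPolynomial (Fin r) A) (w : MZ V R p), ∃ w' : MZ V R p,
      w'.1 = actB U M f p b w.1 ∧ toHH V hV R p w' = b • toHH V hV R p w := fun b w =>
    ⟨zmap (Coh.smulAb R (Coh.toGlobal (bc A X (MvPolynomial (Fin r) A) ↘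
      Spec (CommRingCat.of (MvPolynomial (Fin r) A))) b)) p w, rfl, toHH_smul V hV R _ p w⟩
  let H : Submodule (MvPolynomial (Fin r) A) (Coh.HH (bc A X (MvPolynomial (Fin r) A)) R p) :=
    { carrier := {y | ∃ w, T w ∧ toHH V hV R p w = y}
      add_mem' := by
        rintro _ _ ⟨w, hw, rfl⟩ ⟨w', hw', rfl⟩
        exact ⟨w + w', fun k => (congrArg (fun c => c ∈ S)
          (map_add (coefC U M f hUa p k) w.1 w'.1)).mpr (add_mem (hw k) (hw' k)),
          map_add _ _ _⟩
      zero_mem' := ⟨0, fun k => (congrArg (fun c => c ∈ S) (map_zero (coefC U M f hUa p k))).mpr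
          (zero_mem _),
        map_zero _⟩
      smul_mem' := by
        rintro b _ ⟨w, hw, rfl⟩
        obtain ⟨w', hw', hb⟩ := hsmul b w
        obtain ⟨d, hd⟩ := hbound w.1
        refine ⟨w', fun k => ?_, hb⟩
        rw [hw', coefC_actB U M f hUa p k d b w.1 hd]
        refine AddSubgroup.sum_mem _ fun m _ => AddSubgroup.sum_mem _ fun l _ => ?_
        split_ifs
        · exact hS _ _ (hw l)
        · exact zero_mem _ }
  obtain ⟨s, g, hg⟩ := Submodule.fg_iff_exists_fin_generating_family.1 (IsNoetherian.noetherian H)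
  choose w hwT hwg using fun j => (hg.le (Submodule.subset_span ⟨j, rfl⟩) : g j ∈ H)
  choose dd' hdd using fun j => hbound (w j).1
  refine ⟨Finset.univ.sup dd', fun k hk z hz hzc hzS => ?_⟩
  set d := Finset.univ.sup dd'
  set G := AddSubgroup.closure {c | ∃ a ∈ I ^ (k - d),
    ∃ z' ∈ CJ A U M (I ^ d) p ⊓ (cd U M.presheaf p).ker ⊓ S, c = smulC U M p a z'}
  obtain ⟨x, hx⟩ := exists_single U M f hUa p k hz
  have hxk : coefC U M f hUa p k x = z := funext fun i => by
    change coef U M f hUa p x i k = _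
    rw [hx, Finsupp.single_eq_same]
  have hxc : cd V R.presheaf p x = 0 := by
    refine θc_injective U M f (p + 1) (funext fun i => ?_)
    rw [← Φ_coef U M f hUa, ← Φ_coef U M f hUa]
    refine congrArg _ (Finsupp.ext fun l => ?_)
    change coefC U M f hUa (p + 1) l (cd V R.presheaf p x) i = coefC U M f hUa (p + 1) l 0 i
    rw [coefC_cd, map_zero]
    have : coefC U M f hUa p l x = if k = l then z else 0 := funext fun i => by
      change coef U M f hUa p x i l = _
      rw [hx, Finsupp.single_apply]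
      split_ifs <;> rfl
    rw [this]
    split_ifs
    · rw [hzc]
    · rw [map_zero]
  let X₀ : MZ V R p := ⟨x, hxc⟩
  have hX₀ : toHH V hV R p X₀ ∈ H := ⟨X₀, fun l => by
    change coefC U M f hUa p l x ∈ S
    by_cases hl : k = l
    · subst hl; rw [hxk]; exact hzS
    · rw [show coefC U M f hUa p l x = 0 from funext fun i => by
        change coef U M f hUa p x i l = 0
        rw [hx, Finsupp.single_eq_of_ne' hl]]
      exact zero_mem _, rfl⟩
  rw [← hg, Submodule.mem_span_range_iff_exists_fun] at hX₀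
  obtain ⟨b, hb⟩ := hX₀
  choose w' hw' hw'' using fun j => hsmul (b j) (w j)
  have hterm : ∀ j, coefC U M f hUa p k (w' j).1 ∈ G := by
    intro j
    have hdj : ∀ l, d < l → coefC U M f hUa p l (w j).1 = 0 := fun l hl =>
      hdd j l (lt_of_le_of_lt (Finset.le_sup (f := dd') (Finset.mem_univ j)) hl)
    rw [hw', coefC_actB U M f hUa p k d (b j) (w j).1 hdj]
    refine AddSubgroup.sum_mem _ fun m _ => AddSubgroup.sum_mem _ fun l hl => ?_
    split_ifs with hml
    swap
    · exact zero_mem _
    have hld : l ≤ d := Nat.lt_succ_iff.1 (Finset.mem_range.1 hl)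
    have ha : (reesHom f (b j)).coeff m ∈ I ^ (k - d) * I ^ (d - l) := by
      rw [← pow_add, show k - d + (d - l) = m by omega]
      exact coeff_reesHom_mem f (b j) m
    refine Submodule.mul_induction_on ha (fun u hu v hv => ?_) (fun u v hu hv => ?_)
    · rw [smulC_mul]
      refine AddSubgroup.subset_closure ⟨u, hu, smulC U M p v (coefC U M f hUa p l (w j).1),
        ⟨⟨?_, ?_⟩, hS _ _ (hwT j l)⟩, rfl⟩
      · have h := smulC_mem_CJ U M hv (coefC_mem U M f hUa p l (w j).1)
        rwa [← pow_add, show d - l + l = d by omega] at h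
      · refine (AddMonoidHom.mem_ker (f := cd U M.presheaf p)).2 ?_
        rw [cd_smulC, ← coefC_cd]
        refine (congrArg (smulC U M (p + 1) v)
          ((congrArg (coefC U M f hUa (p + 1) l) (w j).2).trans (map_zero _))).trans (map_zero _)
    · rw [smulC_add]; exact add_mem hu hv
  let W : MZ V R p := ∑ j, w' j
  have hW : toHH V hV R p W = toHH V hV R p X₀ := by
    rw [map_sum, ← hb]
    exact Finset.sum_congr rfl fun j _ => by rw [hw'', hwg]
  have hWk : coefC U M f hUa p k W.1 ∈ G := by
    rw [show coefC U M f hUa p k W.1 = ∑ j, coefC U M f hUa p k (w' j).1 from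
      map_sum ((coefC U M f hUa p k).comp (cd V (Coh.toAb R).obj p).ker.subtype :
        MZ V R p →+ Cochain U M.presheaf p) w' Finset.univ]
    exact AddSubgroup.sum_mem _ fun j _ => hterm j
  have hdiff : z - coefC U M f hUa p k W.1 ∈ BJ A U M (I ^ k) p := by
    rw [← hxk, ← map_sub]
    cases p with
    | zero =>
      have h0 : W = X₀ := (toHH_zero_bijective V hV R).1 hW
      rw [h0, sub_self, map_zero]
      exact zero_mem _
    | succ q =>
      obtain ⟨e, he⟩ := (toHH_eq_zero_iff hV hac q (X₀ - W)).1 (by rw [map_sub, hW, sub_self])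
      refine ⟨coefC U M f hUa q k e, coefC_mem U M f hUa q k e, ?_⟩
      rw [← coefC_cd, he]
      rfl
  have := AddSubgroup.add_mem_sup hWk hdiff
  rwa [add_sub_cancel] at this

end Main

end Groth.Agent.FF71
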