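import Groth.Agent.FF71.Rees
import Groth.Agent.QC70.Coherent

/-! Sections of the Rees module. -/

set_option autoImplicit false
set_option maxSynthPendingDepth 6
set_option linter.style.haveILetI false
set_option linter.unusedSectionVars false
set_option backward.isDefEq.respectTransparency.types false

universe u

noncomputable section

open CategoryTheory Limits AlgebraicGeometry TopologicalSpace Opposite

namespace Groth.Agent.FF71

open QC70 QCPull72

variable {A : Type u} [CommRing A] {X : Scheme.{u}} [X.Over (Spec (CommRingCat.of A))]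
  {r : ℕ} (f : Fin r → A) (M : X.Modules)

/-- The inverse image on the base change to the polynomial ring. -/
abbrev Mπ : (bc A X (MvPolynomial (Fin r) A)).Modules :=
  (Scheme.Modules.pullback (bcπ A X (MvPolynomial (Fin r) A))).obj M

/-- A section as a constant. -/
def uπ (W : X.Opens) :
    Γ(M, W) →+ Γ(Mπ (A := A) (r := r) M, bcπ A X (MvPolynomial (Fin r) A) ⁻¹ᵁ W) :=
  ((pullUnit (bcπ A X (MvPolynomial (Fin r) A)) M).app W).hom

/-- The map to the affine line. -/
def toLine : Mπ (A := A) (r := r) M ⟶ (Scheme.Modules.pushforward (jmap f)).obj (Mq A M) :=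
  ((Scheme.Modules.pullbackPushforwardAdjunction (bcπ A X (MvPolynomial (Fin r) A))).homEquiv M _).symm
    (pullUnit (bcπ A X (Polynomial A)) M ≫
      (Scheme.Modules.pushforwardCongr (jmap_π f).symm).hom.app (Mq A M) ≫
      (Scheme.Modules.pushforwardComp (jmap f) (bcπ A X (MvPolynomial (Fin r) A))).inv.app (Mq A M))

lemma toLine_uπ (W : X.Opens) (m : Γ(M, W)) :
    res (Mq A M) (le_preimage_jmap f W)
        ((toLine f M).app (bcπ A X (MvPolynomial (Fin r) A) ⁻¹ᵁ W) (uπ M W m)) =
      uq (A := A) M W m := by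
  let g := pullUnit (bcπ A X (Polynomial A)) M ≫
      (Scheme.Modules.pushforwardCongr (jmap_π f).symm).hom.app (Mq A M) ≫
      (Scheme.Modules.pushforwardComp (jmap f) (bcπ A X (MvPolynomial (Fin r) A))).inv.app (Mq A M)
  have h := congrArg (fun φ => φ.app W m)
    (((Scheme.Modules.pullbackPushforwardAdjunction (bcπ A X (MvPolynomial (Fin r) A))).homEquiv M _).apply_symm_apply g)
  rw [Adjunction.homEquiv_unit] at h
  refine (congrArg (res (Mq A M) (le_preimage_jmap f W)) h).trans ?_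
  have h2 : g.app W m = res (Mq A M) (preimage_jmap_le f W) (uq (A := A) M W m) := rfl
  refine (congrArg (res (Mq A M) (le_preimage_jmap f W)) h2).trans ?_
  rw [res_res, res_self]

/-- The Rees module. -/
def Rmod : (bc A X (MvPolynomial (Fin r) A)).Modules := Abelian.image (toLine f M)

/-- The projection onto the Rees module. -/
def toR : Mπ (A := A) (r := r) M ⟶ Rmod f M := Abelian.factorThruImage (toLine f M)

/-- The Rees module inside the affine line. -/
def ofR : Rmod f M ⟶ (Scheme.Modules.pushforward (jmap f)).obj (Mq A M) :=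
  Abelian.image.ι (toLine f M)

lemma toR_ofR : toR f M ≫ ofR f M = toLine f M := Abelian.image.fac _

instance epi_toR : Epi (toR f M) := inferInstanceAs (Epi (Abelian.factorThruImage _))

instance mono_ofR : Mono (ofR f M) := inferInstanceAs (Mono (Abelian.image.ι _))

/-- The value of a section of the Rees module on the affine line. -/
def ψ (W : X.Opens) :
    Γ(Rmod f M, bcπ A X (MvPolynomial (Fin r) A) ⁻¹ᵁ W) →+
      Γ(Mq A M, bcπ A X (Polynomial A) ⁻¹ᵁ W) :=
  AddMonoidHom.mk' (fun x => res (Mq A M) (le_preimage_jmap f W)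
    ((ofR f M).app (bcπ A X (MvPolynomial (Fin r) A) ⁻¹ᵁ W) x)) fun a b => by
      rw [map_add]
      exact res_add (M := Mq A M) _ _ _

lemma ψ_injective (W : X.Opens) : Function.Injective (ψ f M W) := by
  intro a b h
  refine app_injective_of_mono (ofR f M) _ ?_
  have h2 := congrArg (res (Mq A M) (preimage_jmap_le f W)) h
  simp only [ψ, AddMonoidHom.mk'_apply, res_res] at h2
  rw [res_self, res_self] at h2
  exact h2

lemma ψ_res {V W : X.Opens} (h : W ≤ V) (x : Γ(Rmod f M, bcπ A X (MvPolynomial (Fin r) A) ⁻¹ᵁ V)) :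
    ψ f M W (res _ ((bcπ A X (MvPolynomial (Fin r) A)).preimage_mono h) x) =
      res (Mq A M) ((bcπ A X (Polynomial A)).preimage_mono h) (ψ f M V x) := by
  simp only [ψ, AddMonoidHom.mk'_apply]
  rw [app_res, QCqs72.pushforward_res, res_res]
  try rw [res_res]

lemma ψ_rA_smul (W : X.Opens) (b : MvPolynomial (Fin r) A)
    (x : Γ(Rmod f M, bcπ A X (MvPolynomial (Fin r) A) ⁻¹ᵁ W)) :
    ψ f M W (rA (MvPolynomial (Fin r) A) (bc A X (MvPolynomial (Fin r) A))
        (bcπ A X (MvPolynomial (Fin r) A) ⁻¹ᵁ W) b • x) =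
      rA (Polynomial A) (bc A X (Polynomial A)) (bcπ A X (Polynomial A) ⁻¹ᵁ W) (reesHom f b) •
        ψ f M W x := by
  simp only [ψ, AddMonoidHom.mk'_apply]
  rw [Scheme.Modules.Hom.app_smul, QCqs72.pushforward_smul, res_smul, jmap_app_rA]

lemma ψ_app_smul (W : X.Opens) (v : Γ(X, W))
    (x : Γ(Rmod f M, bcπ A X (MvPolynomial (Fin r) A) ⁻¹ᵁ W)) :
    ψ f M W ((bcπ A X (MvPolynomial (Fin r) A)).app W v • x) =
      (bcπ A X (Polynomial A)).app W v • ψ f M W x := by
  simp only [ψ, AddMonoidHom.mk'_apply]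
  rw [Scheme.Modules.Hom.app_smul, QCqs72.pushforward_smul, res_smul]
  refine congrArg₂ (· • ·) ?_ rfl
  have h := congrArg (fun g : _ ⟶ Γ(bc A X (Polynomial A), bcπ A X (Polynomial A) ⁻¹ᵁ W) => g v)
    (show (bcπ A X (MvPolynomial (Fin r) A)).app W ≫ (jmap f).appLE _ _ (le_preimage_jmap f W) =
        (bcπ A X (Polynomial A)).app W by
      rw [Scheme.Hom.app_eq_appLE, Scheme.Hom.app_eq_appLE, Scheme.Hom.appLE_comp_appLE]
      simp only [jmap_π])
  exact h

lemma ψ_toR (W : X.Opens) (m : Γ(M, W)) :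
    ψ f M W ((toR f M).app (bcπ A X (MvPolynomial (Fin r) A) ⁻¹ᵁ W) (uπ M W m)) =
      uq (A := A) M W m := by
  refine Eq.trans ?_ (toLine_uπ f M W m)
  refine congrArg (res (Mq A M) (le_preimage_jmap f W)) ?_
  rw [← toR_ofR]
  rfl

variable (A) in
/-- Coefficient lists with `k`-th coefficient in `I ^ k`. -/
def ReesCond (W : X.Opens) (c : ℕ →₀ Γ(M, W)) : Prop :=
  ∀ k, c k ∈ secI A (Ideal.span (Set.range f) ^ k) M W

lemma rA_eq_sum (W : X.Opens) (p : Polynomial A) :
    rA (Polynomial A) (bc A X (Polynomial A)) (bcπ A X (Polynomial A) ⁻¹ᵁ W) p =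
      p.sum fun k a => (bcπ A X (Polynomial A)).app W (rA A X W a) * svar A X _ ^ k := by
  conv_lhs => rw [← p.sum_monomial_eq]
  rw [Polynomial.sum_def, Polynomial.sum_def, map_sum]
  refine Finset.sum_congr rfl fun k _ => ?_
  rw [app_rA, svar, ← map_pow, ← map_mul, ← Polynomial.C_mul_X_pow_eq_monomial]
  rfl

lemma rA_smul_uq (W : X.Opens) (b : MvPolynomial (Fin r) A) (m : Γ(M, W)) :
    ∃ c, ReesCond A f M W c ∧ Φ A M W c =
      rA (Polynomial A) (bc A X (Polynomial A)) (bcπ A X (Polynomial A) ⁻¹ᵁ W) (reesHom f b) •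
        uq (A := A) M W m := by
  classical
  refine ⟨∑ k ∈ (reesHom f b).support, Finsupp.single k (rA A X W ((reesHom f b).coeff k) • m),
    fun l => ?_, ?_⟩
  · rw [Finsupp.finsetSum_apply]
    refine Submodule.sum_mem _ fun k _ => ?_
    rw [Finsupp.single_apply]
    split_ifs with h
    · subst h; exact smul_mem_secI (coeff_reesHom_mem f b k) m
    · exact zero_mem _
  · rw [rA_eq_sum, Polynomial.sum_def, Finset.sum_smul, map_sum]
    refine Finset.sum_congr rfl fun k _ => ?_
    rw [Φ_single, uq_smul, smul_smul, mul_comm]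

variable [IsLocallyNoetherian X] [M.IsQuasicoherent] [M.IsFiniteType]

instance isQuasicoherent_Rmod : (Rmod f M).IsQuasicoherent := by
  haveI := isQuasicoherent_pullback (bcπ A X (MvPolynomial (Fin r) A)) M
  haveI := isQuasicoherent_pullback (bcπ A X (Polynomial A)) M
  haveI : ((Scheme.Modules.pushforward (jmap f)).obj (Mq A M)).IsQuasicoherent :=
    QCqs72.isQuasicoherent_pushforward (M := Mq A M) (jmap f)
  exact isQuasicoherent_abelianImage (toLine f M)

theorem isCoh_Rmod : Coh.IsCoh (Rmod f M) := by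
  haveI := isQuasicoherent_pullback (bcπ A X (MvPolynomial (Fin r) A)) M
  haveI := isFiniteType_pullback (bcπ A X (MvPolynomial (Fin r) A)) M
  exact ⟨inferInstance, isFiniteType_of_epi (toR f M)⟩

theorem exists_toR_eq {V : X.Opens} (hV : IsAffineOpen V)
    (x : Γ(Rmod f M, bcπ A X (MvPolynomial (Fin r) A) ⁻¹ᵁ V)) :
    ∃ y, (toR f M).app _ y = x := by
  haveI := isQuasicoherent_pullback (bcπ A X (MvPolynomial (Fin r) A)) M
  let S := ShortComplex.mk (kernel.ι (toR f M)) (toR f M) (kernel.condition _)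
  haveI : S.X₁.IsQuasicoherent := isQuasicoherent_kernel (toR f M)
  exact app_surjective_of_isAffineOpen S
    (ShortComplex.ShortExact.mk' (ShortComplex.exact_of_f_is_kernel _ (kernelIsKernel _))
      (by dsimp [S]; infer_instance) (by dsimp [S]; infer_instance))
    (hV.preimage (bcπ A X (MvPolynomial (Fin r) A))) x

/-- The Rees module is the sum of the `I ^ k M`. -/
theorem exists_ψ_eq_Φ {V : X.Opens} (hV : IsAffineOpen V)
    (x : Γ(Rmod f M, bcπ A X (MvPolynomial (Fin r) A) ⁻¹ᵁ V)) :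
    ∃ c, ReesCond A f M V c ∧ Φ A M V c = ψ f M V x := by
  classical
  let T := {x : Γ(Rmod f M, bcπ A X (MvPolynomial (Fin r) A) ⁻¹ᵁ V) |
    ∃ c, ReesCond A f M V c ∧ Φ A M V c = ψ f M V x}
  have h0 : (0 : Γ(Rmod f M, bcπ A X (MvPolynomial (Fin r) A) ⁻¹ᵁ V)) ∈ T :=
    ⟨0, fun k => zero_mem _, by rw [map_zero, map_zero]⟩
  have hadd : ∀ a b, a ∈ T → b ∈ T → a + b ∈ T := by
    rintro a b ⟨c, hc, hc'⟩ ⟨d, hd, hd'⟩
    exact ⟨c + d, fun k => add_mem (hc k) (hd k), by rw [map_add, map_add, hc', hd']⟩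
  obtain ⟨y, rfl⟩ := exists_toR_eq f M hV x
  suffices h : ∀ a : Γ(bc A X (MvPolynomial (Fin r) A), bcπ A X (MvPolynomial (Fin r) A) ⁻¹ᵁ V),
      (toR f M).app _ (a • y) ∈ T by
    have h1 := h 1
    rwa [one_smul] at h1
  let π := bcπ A X (MvPolynomial (Fin r) A)
  have key : ∀ (a : Γ(bc A X (MvPolynomial (Fin r) A), π ⁻¹ᵁ V)) (m : Γ(M, V)),
      (toR f M).app (π ⁻¹ᵁ V) (a • uπ M V m) ∈ T := by
    intro a m
    letI := (rA A X V).toAlgebra
    obtain ⟨e, he1, he2⟩ := exists_bc_equiv A X (MvPolynomial (Fin r) A) hV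
    obtain ⟨t, rfl⟩ := e.surjective a
    induction t using TensorProduct.induction_on with
    | zero => rw [map_zero, zero_smul, map_zero]; exact h0
    | tmul v b =>
      have hv : e (v ⊗ₜ[A] b) = rA (MvPolynomial (Fin r) A) _ _ b * π.app V v := by
        rw [← he1, ← he2, ← map_mul, Algebra.TensorProduct.tmul_mul_tmul, one_mul, mul_one]
      obtain ⟨c, hc, hc'⟩ := rA_smul_uq f M V b (v • m)
      refine ⟨c, hc, ?_⟩
      rw [hc', hv, mul_smul, Scheme.Modules.Hom.app_smul, Scheme.Modules.Hom.app_smul, ψ_rA_smul,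
        ψ_app_smul, uq_smul]
      exact congrArg _ (congrArg _ (ψ_toR f M V m).symm)
    | add s t hs ht => rw [map_add, add_smul, map_add]; exact hadd _ _ hs ht
  have hy : y ∈ Submodule.span Γ(bc A X (MvPolynomial (Fin r) A), π ⁻¹ᵁ V) (Set.range (unitSec π M (V := π ⁻¹ᵁ V) le_rfl)) := by
    rw [span_unitSec_eq_top π M hV (hV.preimage π) le_rfl]; trivial
  induction hy using Submodule.span_induction with
  | mem z hz =>
    obtain ⟨m, rfl⟩ := hz
    intro a
    rw [show unitSec π M (V := π ⁻¹ᵁ V) le_rfl m = uπ M V m from res_self _]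
    exact key a m
  | zero => intro a; rw [smul_zero, map_zero]; exact h0
  | add z w _ _ hz hw => intro a; rw [smul_add, map_add]; exact hadd _ _ (hz a) (hw a)
  | smul c z _ hz => intro a; rw [smul_smul]; exact hz _

theorem exists_ψ_eq_single {W : X.Opens} {k : ℕ} {m : Γ(M, W)}
    (hm : m ∈ secI A (Ideal.span (Set.range f) ^ k) M W) :
    ∃ x, ψ f M W x = Φ A M W (Finsupp.single k m) := by
  refine secI_induction (P := fun m => ∃ x, ψ f M W x = Φ A M W (Finsupp.single k m)) ?_ ?_ ?_ hm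
  · exact ⟨0, by rw [map_zero, Finsupp.single_zero, map_zero]⟩
  · rintro a b ⟨x, hx⟩ ⟨z, hz⟩
    exact ⟨x + z, by rw [map_add, Finsupp.single_add, map_add, hx, hz]⟩
  · intro a ha m
    obtain ⟨b, hb⟩ := exists_reesHom_eq f ha
    refine ⟨rA (MvPolynomial (Fin r) A) (bc A X (MvPolynomial (Fin r) A))
      (bcπ A X (MvPolynomial (Fin r) A) ⁻¹ᵁ W) b • (toR f M).app _ (uπ M W m), ?_⟩
    rw [ψ_rA_smul, hb, Φ_single, uq_smul, smul_smul, ← Polynomial.C_mul_X_pow_eq_monomial, map_mul,
      map_pow, mul_comm]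
    refine congrArg₂ (fun s t => s • t) (congrArg₂ (· * ·) rfl (app_rA _ W a).symm) ?_
    exact ψ_toR f M W m

end Groth.Agent.FF71
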